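import Cfsg.Agent.Lib.Fusion.WeakZJ.Torus
import Cfsg.Agent.Lib.PStab.MaxAdm
import Cfsg.Agent.Lib.Cores.Basic
import Cfsg.Agent.Lib.Fusion.Basic

/-!
A central subgroup normalised by `N(J(S))` is normal or has a transitive torus, `p` odd.
-/

set_option autoImplicit false
set_option linter.unusedSectionVars false

open Cfsg
open scoped commutatorElement Pointwise

universe u

namespace CfsgLib.Fusion.WeakZJ

open CfsgLib.PStab (Adm maxAdm jGen jGen_le le_jGen maxAdm_nonempty jGen_map adm_comm)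
open CfsgLib.LocalEven.PMinFF
open CfsgLib.LocalEven.MinOffender (fx)

variable {G : Type u} [Group G] [Finite G] {p : ℕ} [Fact p.Prime]

theorem jGen_eq {D S : Subgroup G} (h1 : jGen 0 S ≤ D) (h2 : D ≤ S) : jGen 0 D = jGen 0 S := by
  have h : maxAdm 0 D = maxAdm 0 S := by
    obtain ⟨A₀, hA₀⟩ := maxAdm_nonempty 0 S
    ext A
    constructor
    · intro hA
      refine ⟨hA.1.trans h2, hA.2.1, fun B hB hBa => (hA₀.2.2 B hB hBa).trans ?_⟩
      exact hA.2.2 A₀ ((le_jGen hA₀).trans h1) hA₀.2.1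
    · intro hA
      exact ⟨(le_jGen hA).trans h1, hA.2.1, fun B hB hBa => hA.2.2 B (hB.trans h2) hBa⟩
  rw [jGen, jGen, h]

theorem normalizer_le_normalizer_jGen (D : Subgroup G) :
    Subgroup.normalizer (D : Set G) ≤ Subgroup.normalizer (jGen 0 D : Set G) := fun g hg => by
  refine CfsgLib.Fusion.conjSub_eq_iff_mem_normalizer.1 ?_
  show (jGen 0 D).map _ = _
  rw [← jGen_map (f := (MulAut.conj g).toMonoidHom) (MulAut.conj g).injective]
  exact congrArg _ (CfsgLib.Fusion.conjSub_eq_iff_mem_normalizer.2 hg)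

theorem mem_maxAdm_of_commute {D A : Subgroup G} (hA : A ∈ maxAdm 0 D) {x : G} (hxD : x ∈ D)
    (hx : ∀ a ∈ A, x * a = a * x) : x ∈ A := by
  have hcm : ∀ u ∈ insert x (A : Set G), ∀ v ∈ insert x (A : Set G), u * v = v * u := by
    rintro u (rfl | hu) v (rfl | hv)
    · rfl
    · exact hx v hv
    · exact (hx u hu).symm
    · exact adm_comm hA.2.1 hu hv
  set B := Subgroup.closure (insert x (A : Set G))
  have hAB : A ≤ B := fun a ha => Subgroup.subset_closure (Set.mem_insert_of_mem x ha)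
  have hcard := hA.2.2 B ((Subgroup.closure_le _).2 (Set.insert_subset hxD hA.1))
    ⟨Subgroup.isMulCommutative_closure hcm, fun b _ => pow_zero b⟩
  rw [Subgroup.eq_of_le_of_card_ge hAB hcard]
  exact Subgroup.subset_closure (Set.mem_insert x _)

theorem exists_split (g : G) :
    ∃ m k : ℕ, ¬ p ∣ orderOf (g ^ (p ^ k)) ∧ (g ^ m) ^ (p ^ k) = 1 ∧
      g ∈ Subgroup.zpowers (g ^ (p ^ k)) ⊔ Subgroup.zpowers (g ^ m) := by
  refine ⟨ordCompl[p] (orderOf g), (orderOf g).factorization p, ?_, ?_, ?_⟩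
  · rw [orderOf_pow, Nat.gcd_eq_right (Nat.ordProj_dvd _ _)]
    exact Nat.not_dvd_ordCompl Fact.out (orderOf_pos g).ne'
  · rw [← pow_mul, mul_comm, Nat.ordProj_mul_ordCompl_eq_self, pow_orderOf_eq_one]
  · set a := ordProj[p] (orderOf g)
    set m := ordCompl[p] (orderOf g)
    have hco : Nat.gcd a m = 1 := Nat.Coprime.pow_left _ (Nat.coprime_ordCompl Fact.out (orderOf_pos g).ne')
    have h1 := Nat.gcd_eq_gcd_ab a m
    rw [hco] at h1
    have h2 : (g ^ a) ^ Nat.gcdA a m * (g ^ m) ^ Nat.gcdB a m = g := by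
      rw [← zpow_natCast g a, ← zpow_natCast g m, ← zpow_mul, ← zpow_mul, ← zpow_add, ← h1]
      simp
    have h3 := Subgroup.mul_mem_sup (S := Subgroup.zpowers (g ^ a)) (T := Subgroup.zpowers (g ^ m))
      (Subgroup.mem_zpowers_iff.2 ⟨Nat.gcdA a m, rfl⟩) (Subgroup.mem_zpowers_iff.2 ⟨Nat.gcdB a m, rfl⟩)
    rwa [h2] at h3

/-- A Sylow subgroup meets a normal subgroup in a Sylow subgroup. -/
theorem exists_sylow_inf (S : Sylow p G) (N : Subgroup G) [hN : N.Normal] :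
    ∃ P : Sylow p ↥N, (P : Subgroup ↥N).map N.subtype = (S : Subgroup G) ⊓ N := by
  have hp' : IsPGroup p ↥(((S : Subgroup G) ⊓ N).subgroupOf N) :=
    (S.2.to_le inf_le_left).of_equiv (Subgroup.subgroupOfEquivOfLe inf_le_right).symm
  obtain ⟨P, hP⟩ := hp'.exists_le_sylow
  have hle : (S : Subgroup G) ⊓ N ≤ (P : Subgroup N).map N.subtype := fun x hx =>
    ⟨⟨x, hx.2⟩, hP (show (⟨x, hx.2⟩ : N) ∈ ((S : Subgroup G) ⊓ N).subgroupOf N from hx), rfl⟩
  obtain ⟨Q, hQ⟩ := (P.2.map N.subtype).exists_le_sylow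
  obtain ⟨g, hg⟩ := MulAction.exists_smul_eq G Q S
  have hcard : Nat.card ↥((P : Subgroup N).map N.subtype) ≤ Nat.card ↥((S : Subgroup G) ⊓ N : Subgroup G) := by
    rw [← CfsgLib.Fusion.card_conjSub g ((P : Subgroup N).map N.subtype)]
    refine Subgroup.card_le_of_le (le_inf ?_ ?_)
    · rw [← hg, Sylow.coe_subgroup_smul]
      exact Subgroup.map_mono hQ
    · rintro _ ⟨_, ⟨x, _, rfl⟩, rfl⟩
      exact hN.conj_mem _ x.2 g
  exact ⟨P, (Subgroup.eq_of_le_of_card_ge hle hcard).symm⟩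

/-- Frattini argument with the intersection of a Sylow subgroup. -/
theorem normalizer_inf_sup (S : Sylow p G) (N : Subgroup G) [hN : N.Normal] :
    Subgroup.normalizer (((S : Subgroup G) ⊓ N : Subgroup G) : Set G) ⊔ N = ⊤ := by
  obtain ⟨P, hP⟩ := exists_sylow_inf S N
  rw [← hP]
  exact P.normalizer_sup_eq_top

/-- A normal subgroup is a central part times its Sylow intersection when the quotient is a `p`-group. -/
theorem le_sup_inf (S : Sylow p G) {N C : Subgroup G} [N.Normal] [hC : C.Normal]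
    (h1 : ∀ g ∈ N, ¬ p ∣ orderOf g → g ∈ C) : N ≤ C ⊔ (S : Subgroup G) := by
  obtain ⟨P, hP⟩ := exists_sylow_inf S N
  let C' := C.subgroupOf N
  have hq : IsPGroup p (↥N ⧸ C') := fun q => by
    induction q using QuotientGroup.induction_on with
    | H g =>
      obtain ⟨m, k, hk, -, -⟩ := exists_split (p := p) (g : G)
      exact ⟨k, (QuotientGroup.eq_one_iff (g ^ (p ^ k))).2 (h1 _ (N.pow_mem g.2 _) hk)⟩
  obtain ⟨k, hk⟩ := IsPGroup.iff_card.1 hq
  have hd1 : (C' ⊔ (P : Subgroup ↥N)).index ∣ p ^ k :=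
    hk ▸ (Subgroup.index_eq_card C' ▸ Subgroup.index_dvd_of_le le_sup_left)
  have hd2 : (C' ⊔ (P : Subgroup ↥N)).index ∣ (P : Subgroup ↥N).index := Subgroup.index_dvd_of_le le_sup_right
  have hco : Nat.Coprime (p ^ k) (P : Subgroup ↥N).index :=
    Nat.Coprime.pow_left k ((Fact.out : p.Prime).coprime_iff_not_dvd.2 P.not_dvd_index)
  have h2 := Nat.dvd_gcd hd1 hd2
  rw [hco.gcd_eq_one, Nat.dvd_one, Subgroup.index_eq_one] at h2
  intro g hg
  have h3 := Subgroup.mem_map_of_mem N.subtype (h2.ge (Subgroup.mem_top (⟨g, hg⟩ : ↥N)))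
  rw [Subgroup.map_sup, hP] at h3
  exact sup_le_sup (Subgroup.map_comap_le _ _) inf_le_left h3

/-- A normal subgroup whose `p`-parts and `p'`-parts lie in a normal subgroup lies in it. -/
theorem le_of_parts (S : Sylow p G) {N C : Subgroup G} [hN : N.Normal] [hC : C.Normal]
    (h1 : ∀ g ∈ N, ¬ p ∣ orderOf g → g ∈ C) (h2 : (S : Subgroup G) ⊓ N ≤ C) : N ≤ C := by
  intro g hg
  obtain ⟨m, k, hk, hm, hgm⟩ := exists_split (p := p) g
  have ha : g ^ (p ^ k) ∈ C := h1 _ (N.pow_mem hg _) hk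
  have hb : g ^ m ∈ C := by
    have hpz : IsPGroup p ↥(Subgroup.zpowers (g ^ m)) := fun ⟨x, hx⟩ => by
      obtain ⟨i, rfl⟩ := Subgroup.mem_zpowers_iff.1 hx
      refine ⟨k, Subtype.ext ?_⟩
      show ((g ^ m) ^ i) ^ (p ^ k) = 1
      rw [← zpow_natCast, ← zpow_mul, mul_comm, zpow_mul, zpow_natCast, hm, one_zpow]
    obtain ⟨Q, hQ⟩ := hpz.exists_le_sylow
    obtain ⟨x, hx⟩ := MulAction.exists_smul_eq G Q S
    have h3 : x * g ^ m * x⁻¹ ∈ C := h2 ⟨by
      rw [← hx, Sylow.coe_subgroup_smul]; exact ⟨_, hQ (Subgroup.mem_zpowers _), rfl⟩,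
      hN.conj_mem _ (N.pow_mem hg _) x⟩
    simpa [mul_assoc] using hC.conj_mem _ h3 x⁻¹
  exact sup_le (Subgroup.zpowers_le.2 ha) (Subgroup.zpowers_le.2 hb) hgm

/-- Coprime action on an abelian `p`-group is seen on the elements of order `p`. -/
theorem commute_of_omega {V : Subgroup G} (hV : IsPGroup p ↥V)
    (hcomm : ∀ a ∈ V, ∀ b ∈ V, a * b = b * a) {g : G} (hg : ¬ p ∣ orderOf g)
    (hn : g ∈ Subgroup.normalizer (V : Set G)) (hfix : ∀ w ∈ V, w ^ p = 1 → g * w = w * g) :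
    ∀ v ∈ V, g * v = v * g := by
  suffices hs : ∀ k : ℕ, ∀ v ∈ V, v ^ (p ^ k) = 1 → g * v = v * g by
    intro v hv
    obtain ⟨k, hk⟩ := hV ⟨v, hv⟩
    exact hs k v hv (congrArg Subtype.val hk)
  intro k
  induction k with
  | zero => intro v hv h1; rw [pow_zero, pow_one] at h1; simp [h1]
  | succ k ih =>
    intro v hv h1
    have hvp : g * v ^ p = v ^ p * g := ih _ (V.pow_mem hv p) (by rw [← pow_mul, ← pow_succ', h1])
    have hd : g * v * g⁻¹ * v⁻¹ ∈ V := V.mul_mem ((Subgroup.mem_normalizer_iff.1 hn v).1 hv) (V.inv_mem hv)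
    obtain ⟨d, hddef⟩ : ∃ d, d = g * v * g⁻¹ * v⁻¹ := ⟨_, rfl⟩
    rw [← hddef] at hd
    have hdp : d ^ p = 1 := by
      have hc : Commute (g * v * g⁻¹) v⁻¹ :=
        hcomm _ ((Subgroup.mem_normalizer_iff.1 hn v).1 hv) _ (V.inv_mem hv)
      rw [hddef, hc.mul_pow, conj_pow, hvp, mul_inv_cancel_right, inv_pow, mul_inv_cancel]
    have hgd : Commute g d := hfix d hd hdp
    have hit : ∀ i : ℕ, g ^ i * v * (g ^ i)⁻¹ = d ^ i * v := by
      intro i
      induction i with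
      | zero => simp
      | succ i ihi =>
        calc g ^ (i + 1) * v * (g ^ (i + 1))⁻¹ = g * (g ^ i * v * (g ^ i)⁻¹) * g⁻¹ := by
              rw [pow_succ']; group
          _ = g * (d ^ i * v) * g⁻¹ := by rw [ihi]
          _ = d ^ i * (g * v * g⁻¹) := by rw [← mul_assoc g, (hgd.pow_right i).eq]; group
          _ = d ^ i * (d * v) := by rw [hddef, inv_mul_cancel_right]
          _ = d ^ (i + 1) * v := (mul_assoc _ _ _).symm.trans (by rw [pow_succ])
    have h2 := hit (orderOf g)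
    rw [pow_orderOf_eq_one, inv_one, one_mul, mul_one, eq_comm, mul_eq_right] at h2
    have h3 := Nat.dvd_gcd (orderOf_dvd_of_pow_eq_one h2) (orderOf_dvd_of_pow_eq_one hdp)
    rw [Nat.Coprime.gcd_eq_one ((Fact.out : p.Prime).coprime_iff_not_dvd.2 hg).symm] at h3
    have h4 : d = 1 := orderOf_eq_one_iff.1 (Nat.dvd_one.1 h3)
    rw [hddef, mul_inv_eq_one, mul_inv_eq_iff_eq_mul] at h4
    exact h4

/-- The transitive torus. -/
def Good (p : ℕ) (Z : Subgroup G) : Prop :=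
  ∃ (x : G) (L : Subgroup G), x ∈ Subgroup.normalizer (Z : Set G) ∧ ¬ p ∣ orderOf x ∧
    (∀ i : ℕ, ∀ t ∈ Z, x ^ i * t * (x ^ i)⁻¹ * t⁻¹ ∈ L) ∧
    (∃ t ∈ Z, x * t ≠ t * x) ∧
    ∀ a ∈ L, ∀ b ∈ L, a ≠ 1 → b ≠ 1 → ∃ i : ℕ, x ^ i * a * (x ^ i)⁻¹ = b

theorem Good.map {H : Type*} [Group H] {f : G →* H} (hf : Function.Injective f) {Z : Subgroup G}
    (h : Good p Z) : Good p (Z.map f) := by
  obtain ⟨x, L, hx, hord, hL, ⟨t, ht, hne⟩, htr⟩ := h
  refine ⟨f x, L.map f, Subgroup.le_normalizer_map f ⟨x, hx, rfl⟩, by rwa [orderOf_injective f hf x],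
    ?_, ⟨f t, ⟨t, ht, rfl⟩, fun e => hne (hf (by rw [map_mul, map_mul, e]))⟩, ?_⟩
  · rintro i _ ⟨u, hu, rfl⟩
    exact ⟨_, hL i u hu, by simp⟩
  · rintro _ ⟨a, ha, rfl⟩ _ ⟨b, hb, rfl⟩ ha1 hb1
    obtain ⟨i, hi⟩ := htr a ha b hb (fun e => ha1 (by rw [e, map_one])) (fun e => hb1 (by rw [e, map_one]))
    exact ⟨i, by rw [← hi]; simp⟩

/-- The minimal case. -/
theorem good_of_minimal (hp : p ≠ 2) (S : Sylow p G)
    (hC : Subgroup.centralizer (pCore p G : Set G) ≤ pCore p G) {Z : Subgroup G}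
    (hZS : Z ≤ (S : Subgroup G)) (hZc : ∀ s ∈ (S : Subgroup G), ∀ t ∈ Z, s * t = t * s)
    (hJ : Subgroup.normalizer (jGen 0 (S : Subgroup G) : Set G) ≤ Subgroup.normalizer (Z : Set G))
    (hne : Subgroup.normalizer (Z : Set G) ≠ ⊤)
    (huniq : ∀ H : Subgroup G, (S : Subgroup G) ≤ H → H ≠ ⊤ → H ≤ Subgroup.normalizer (Z : Set G)) :
    Good p Z := by
  classical
  set NZ := Subgroup.normalizer (Z : Set G) with hNZ
  have hSN : (S : Subgroup G) ≤ NZ := fun s hs => CfsgLib.Fusion.mem_normalizer_of_forall fun t ht => by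
    rw [hZc s hs t ht, mul_inv_cancel_right]; exact ht
  have hO : pCore p G ≤ (S : Subgroup G) := Cores.pCore_le_sylow S
  set V := Subgroup.normalClosure (Z : Set G) with hVdef
  have hZV : Z ≤ V := Subgroup.subset_normalClosure
  have hZcO : Z ≤ Subgroup.centralizer (pCore p G : Set G) := fun t ht =>
    Subgroup.mem_centralizer_iff.2 fun o ho => hZc o (hO ho) t ht
  have hVO : V ≤ pCore p G ⊓ Subgroup.centralizer (pCore p G : Set G) :=
    Subgroup.normalClosure_le_normal (le_inf (hZcO.trans hC) hZcO)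
  have hVp : IsPGroup p ↥V := (Cores.isPGroup_pCore p).to_le (hVO.trans inf_le_left)
  have hVab : ∀ a ∈ V, ∀ b ∈ V, a * b = b * a := fun a ha b hb =>
    Subgroup.mem_centralizer_iff.1 (hVO hb).2 a (hVO ha).1
  have hVS : V ≤ (S : Subgroup G) := (hVO.trans inf_le_left).trans hO
  let W : Subgroup G :=
    { carrier := {v | v ∈ V ∧ v ^ p = 1}
      one_mem' := ⟨V.one_mem, one_pow p⟩
      mul_mem' := fun {a b} ha hb =>
        ⟨V.mul_mem ha.1 hb.1, by rw [Commute.mul_pow (show Commute a b from hVab a ha.1 b hb.1), ha.2, hb.2, one_mul]⟩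
      inv_mem' := fun {a} ha => ⟨V.inv_mem ha.1, by rw [inv_pow, ha.2, inv_one]⟩ }
  have hWV : W ≤ V := fun v hv => hv.1
  have hWab : IsMulCommutative ↥W := ⟨⟨fun a b => Subtype.ext (hVab a (hWV a.2) b (hWV b.2))⟩⟩
  haveI hWn : W.Normal := ⟨fun v hv g => ⟨Subgroup.normalClosure_normal.conj_mem v hv.1 g, by
    rw [conj_pow, hv.2, mul_one, mul_inv_cancel]⟩⟩
  set C₁ := Subgroup.centralizer (W : Set G) with hC₁
  set C := Subgroup.centralizer (V : Set G) with hCdef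
  have hCC₁ : C ≤ C₁ := Subgroup.centralizer_le hWV
  have hCN : C ≤ NZ := fun c hc => CfsgLib.Fusion.mem_normalizer_of_forall fun t ht => by
    rw [← Subgroup.mem_centralizer_iff.1 hc t (hZV ht), mul_inv_cancel_right]; exact ht
  have hOC : pCore p G ≤ C := fun o ho => Subgroup.mem_centralizer_iff.2 fun v hv =>
    (Subgroup.mem_centralizer_iff.1 (hVO hv).2 o ho).symm
  -- normal subgroups containing `J`
  have hK : ∀ K : Subgroup G, K.Normal → jGen 0 (S : Subgroup G) ≤ K → K ⊔ (S : Subgroup G) = ⊤ := by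
    intro K hKn hJK
    by_contra hKS
    have hKN : K ≤ NZ := le_sup_left.trans (huniq _ le_sup_right hKS)
    have h1 := normalizer_inf_sup S K
    refine hne (top_le_iff.1 (h1 ▸ sup_le ?_ hKN))
    refine ((normalizer_le_normalizer_jGen _).trans ?_).trans hJ
    rw [jGen_eq (le_inf (jGen_le 0 _) hJK) inf_le_left]
  have hN : ∀ N : Subgroup G, N.Normal → N ≤ NZ → (∀ g ∈ N, ¬ p ∣ orderOf g → g ∈ C) → N ≤ C := by
    intro N hNn hNN hpp
    refine le_of_parts S hpp ?_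
    have hn : Subgroup.normalizer (((S : Subgroup G) ⊓ N : Subgroup G) : Set G) = ⊤ := by
      by_contra hlt
      have hS' : (S : Subgroup G) ≤ Subgroup.normalizer (((S : Subgroup G) ⊓ N : Subgroup G) : Set G) :=
        fun s hs => CfsgLib.Fusion.mem_normalizer_of_forall fun x hx =>
          ⟨Subgroup.mul_mem _ (Subgroup.mul_mem _ hs hx.1) (Subgroup.inv_mem _ hs), hNn.conj_mem x hx.2 s⟩
      exact hne (top_le_iff.1 (normalizer_inf_sup S N ▸ sup_le (huniq _ hS' hlt) hNN))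
    haveI := Subgroup.normalizer_eq_top_iff.1 hn
    exact (Cores.le_pCore (S.2.to_le inf_le_left)).trans hOC
  have hC₁pp : ∀ g ∈ C₁, ¬ p ∣ orderOf g → g ∈ C := fun g hg hgo => Subgroup.mem_centralizer_iff.2 fun v hv =>
    (commute_of_omega hVp hVab hgo (Subgroup.normalizer_eq_top V ▸ Subgroup.mem_top g)
      (fun w hw hw1 => (Subgroup.mem_centralizer_iff.1 hg w ⟨hw, hw1⟩).symm) v hv).symm
  have hC₁N : C₁ ≤ NZ := (le_sup_inf S hC₁pp).trans (sup_le hCN hSN)
  have hC₁C : C₁ ≤ C := hN C₁ inferInstance hC₁N hC₁pp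
  -- some abelian subgroup of largest order moves `W`
  obtain ⟨A₀, hA₀, hA₀C⟩ : ∃ A ∈ maxAdm 0 (S : Subgroup G), ¬ A ≤ C₁ := by
    by_contra hc
    push Not at hc
    have h1 := hK C₁ inferInstance (sSup_le hc)
    exact hne (top_le_iff.1 (h1 ▸ sup_le hC₁N hSN))
  -- the module
  letI : CommGroup ↥W :=
    { W.toGroup with mul_comm := fun a b => Subtype.ext (hVab a (hWV a.2) b (hWV b.2)) }
  let act : G ⧸ C₁ →* MulAut ↥W := QuotientGroup.lift C₁ (MulAut.conjNormal (H := W)) fun c hc => by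
    refine MulEquiv.ext fun w => Subtype.ext ?_
    rw [MulAut.conjNormal_apply]
    exact mul_inv_eq_iff_eq_mul.2 (Subgroup.mem_centralizer_iff.1 hc w w.2).symm
  letI : SMul (G ⧸ C₁) (Additive ↥W) := ⟨fun g m => Additive.ofMul (act g (Additive.toMul m))⟩
  letI : DistribMulAction (G ⧸ C₁) (Additive ↥W) :=
    { one_smul := fun m => by show Additive.ofMul (act 1 (Additive.toMul m)) = m; rw [map_one]; rfl
      mul_smul := fun g g' m => by
        show Additive.ofMul (act (g * g') (Additive.toMul m)) = _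
        rw [map_mul]
        rfl
      smul_zero := fun g => by show Additive.ofMul (act g 1) = 0; rw [map_one]; rfl
      smul_add := fun g a b => by
        show Additive.ofMul (act g (Additive.toMul a * Additive.toMul b)) = _
        rw [map_mul]
        rfl }
  haveI : Finite (Additive ↥W) := inferInstanceAs (Finite ↥W)
  set π := QuotientGroup.mk' C₁ with hπdef
  have hπ : Function.Surjective π := QuotientGroup.mk'_surjective C₁
  have hπ1 : ∀ g, π g = 1 ↔ g ∈ C₁ := fun g => QuotientGroup.eq_one_iff g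
  have hsm : ∀ (g : G) (w : ↥W), π g • Additive.ofMul w = Additive.ofMul (MulAut.conjNormal g w) :=
    fun _ _ => rfl
  let el : ∀ w, w ∈ W → Additive ↥W := fun w hw => Additive.ofMul ⟨w, hw⟩
  have hfixiff : ∀ g w (hw : w ∈ W), π g • el w hw = el w hw ↔ g * w = w * g := fun g w hw => by
    show π g • Additive.ofMul _ = Additive.ofMul _ ↔ _
    rw [hsm, Additive.ofMul.injective.eq_iff, Subtype.ext_iff, MulAut.conjNormal_apply, mul_inv_eq_iff_eq_mul]
  let T := S.mapSurjective hπ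
  have hT : (T : Subgroup (G ⧸ C₁)) = (S : Subgroup G).map π := Sylow.coe_mapSurjective _ _
  set Mx := NZ.map π with hMx
  have hcomap : ∀ H : Subgroup G, C₁ ≤ H → (H.map π).comap π = H := fun H hH =>
    Subgroup.comap_map_eq_self (by rwa [hπdef, QuotientGroup.ker_mk'])
  have hproper : Mx ≠ ⊤ := fun e => hne (by
    rw [← hcomap NZ hC₁N, ← hMx, e, Subgroup.comap_top])
  have hsyl : (T : Subgroup (G ⧸ C₁)) ≤ Mx := hT ▸ Subgroup.map_mono hSN
  have hun : ∀ H : Subgroup (G ⧸ C₁), (T : Subgroup (G ⧸ C₁)) ≤ H → H ≠ ⊤ → H ≤ Mx := fun H hH hHne => by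
    rw [← Subgroup.map_comap_eq_self_of_surjective hπ H]
    refine Subgroup.map_mono (huniq _ (fun s hs => hH (hT ▸ ⟨s, hs, rfl⟩)) fun e => hHne ?_)
    rw [← Subgroup.map_comap_eq_self_of_surjective hπ H, e, Subgroup.map_top_of_surjective _ hπ]
  have hcore : ∀ E : Subgroup (G ⧸ C₁), E.Normal → IsPGroup p ↥E → E = ⊥ := by
    intro E hEn hEp
    set K := E.comap π
    haveI : K.Normal := hEn.comap π
    have hKpp : ∀ g ∈ K, ¬ p ∣ orderOf g → g ∈ C := fun g hg hgo => hC₁C ((hπ1 g).1 (by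
      obtain ⟨k, hk⟩ := hEp ⟨π g, hg⟩
      have h1 : π g ^ (p ^ k) = 1 := congrArg Subtype.val hk
      have h2 := Nat.dvd_gcd (orderOf_dvd_of_pow_eq_one h1) (orderOf_map_dvd π g)
      rw [((Fact.out : p.Prime).coprime_iff_not_dvd.2 hgo).pow_left k |>.gcd_eq_one] at h2
      exact orderOf_eq_one_iff.1 (Nat.dvd_one.1 h2)))
    have hKC := hN K inferInstance ((le_sup_inf S hKpp).trans (sup_le hCN hSN)) hKpp
    rw [eq_bot_iff]
    intro e he
    obtain ⟨g, rfl⟩ := hπ e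
    exact Subgroup.mem_bot.2 ((hπ1 g).2 (hCC₁ (hKC he)))
  have hexp : ∀ m : Additive ↥W, p • m = 0 := fun m => by
    show Additive.ofMul ((Additive.toMul m) ^ p) = 0
    rw [show (Additive.toMul m) ^ p = 1 from Subtype.ext (Additive.toMul m).2.2]
    rfl
  have hfaith : ∀ g : G ⧸ C₁, (∀ m : Additive ↥W, g • m = m) → g = 1 := fun g hg => by
    obtain ⟨g, rfl⟩ := hπ g
    exact (hπ1 g).2 (Subgroup.mem_centralizer_iff.2 fun w hw => ((hfixiff g w hw).1 (hg _)).symm)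
  -- the counts for an abelian subgroup of largest order
  have hcount : ∀ A ∈ maxAdm 0 (S : Subgroup G),
      Nat.card ↥(fx (Additive ↥W) (A.map π)) = Nat.card ↥(W ⊓ A : Subgroup G) ∧
      Nat.card ↥V ≤ Nat.card ↥(A.map π) * Nat.card ↥(V ⊓ A : Subgroup G) := by
    intro A hA
    constructor
    · refine Nat.card_congr
        { toFun := fun m => ⟨((Additive.toMul (m : Additive ↥W) : ↥W) : G), (Additive.toMul (m : Additive ↥W)).2,
            mem_maxAdm_of_commute hA (hVS (hWV (Additive.toMul (m : Additive ↥W)).2)) fun a ha =>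
              ((hfixiff a _ (Additive.toMul (m : Additive ↥W)).2).1 (m.2 _ ⟨a, ha, rfl⟩)).symm⟩
          invFun := fun w => ⟨el w.1 w.2.1, by
            rintro _ ⟨a, ha, rfl⟩
            exact (hfixiff a _ w.2.1).2 (adm_comm hA.2.1 ha w.2.2)⟩
          left_inv := fun m => rfl
          right_inv := fun w => rfl }
    · have hle := hA.2.2 ((A ⊓ C) ⊔ V) (sup_le (inf_le_left.trans hA.1) hVS) ⟨by
        rw [← Subgroup.closure_eq ((A ⊓ C) ⊔ V)]
        rw [Subgroup.closure_eq, Subgroup.sup_eq_closure]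
        refine Subgroup.isMulCommutative_closure ?_
        rintro u (hu | hu) v (hv | hv)
        · exact adm_comm hA.2.1 hu.1 hv.1
        · exact (Subgroup.mem_centralizer_iff.1 hu.2 v hv).symm
        · exact Subgroup.mem_centralizer_iff.1 hv.2 u hu
        · exact hVab u hu v hv, fun b _ => pow_zero b⟩
      haveI : V.Normal := Subgroup.normalClosure_normal
      have h1 := Subgroup.relIndex_mul_relIndex ⊥ V ((A ⊓ C) ⊔ V) bot_le le_sup_right
      rw [Subgroup.relIndex_bot_left, Subgroup.relIndex_bot_left, Subgroup.relIndex_sup_right] at h1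
      have h2 := Subgroup.relIndex_mul_relIndex ⊥ (V ⊓ (A ⊓ C)) (A ⊓ C) bot_le inf_le_right
      rw [Subgroup.relIndex_bot_left, Subgroup.relIndex_bot_left, Subgroup.inf_relIndex_right] at h2
      have h3 : V ⊓ (A ⊓ C) = V ⊓ A := by
        refine le_antisymm (inf_le_inf_left _ inf_le_left) (le_inf inf_le_left (le_inf inf_le_right ?_))
        exact fun v hv => Subgroup.mem_centralizer_iff.2 fun w hw => hVab w hw v hv.1
      rw [h3] at h2
      have h4 := Subgroup.card_eq_card_quotient_mul_card_subgroup (π.subgroupMap A).ker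
      rw [Nat.card_congr (QuotientGroup.quotientKerEquivOfSurjective _ (π.subgroupMap_surjective A)).toEquiv,
        show Nat.card ↥(π.subgroupMap A).ker = Nat.card ↥(A ⊓ C : Subgroup G) from Nat.card_congr
          { toFun := fun a => ⟨(a.1 : G), a.1.2, hC₁C ((hπ1 _).1 (congrArg Subtype.val a.2))⟩
            invFun := fun a => ⟨⟨a.1, a.2.1⟩, Subtype.ext ((hπ1 _).2 (hCC₁ a.2.2))⟩
            left_inv := fun a => rfl
            right_inv := fun a => rfl }] at h4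
      rw [h4, ← h1] at hle
      have hpos : 0 < V.relIndex (A ⊓ C) := Nat.pos_of_ne_zero fun e => by
        rw [e, mul_zero] at h2
        exact Nat.card_pos.ne' h2.symm
      rw [← h2] at hle
      refine Nat.le_of_mul_le_mul_right ?_ hpos
      calc Nat.card ↥V * V.relIndex (A ⊓ C) ≤ _ := hle
        _ = _ := by rw [mul_assoc]
  -- the powers
  let Vp : Subgroup G :=
    { carrier := {y | ∃ v ∈ V, v ^ p = y}
      one_mem' := ⟨1, V.one_mem, one_pow p⟩
      mul_mem' := by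
        rintro _ _ ⟨a, ha, rfl⟩ ⟨b, hb, rfl⟩
        exact ⟨a * b, V.mul_mem ha hb, Commute.mul_pow (show Commute a b from hVab a ha b hb) p⟩
      inv_mem' := by
        rintro _ ⟨a, ha, rfl⟩
        exact ⟨a⁻¹, V.inv_mem ha, inv_pow a p⟩ }
  haveI hVpn : Vp.Normal := ⟨fun y hy g => by
    obtain ⟨v, hv, rfl⟩ := hy
    exact ⟨g * v * g⁻¹, Subgroup.normalClosure_normal.conj_mem v hv g, conj_pow⟩⟩
  let pw : ↥V →* ↥Vp :=
    { toFun := fun v => ⟨(v : G) ^ p, v, v.2, rfl⟩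
      map_one' := Subtype.ext (one_pow p)
      map_mul' := fun a b => Subtype.ext (Commute.mul_pow (show Commute (a : G) b from hVab a a.2 b b.2) p) }
  have hpw : ∀ (D : Subgroup G), D ≤ V →
      Nat.card ↥D = Nat.card ↥((D.subgroupOf V).map pw) * Nat.card ↥(W ⊓ D : Subgroup G) := by
    intro D hD
    set f := pw.comp (Subgroup.inclusion hD)
    have hfr : f.range = (D.subgroupOf V).map pw := by
      ext y
      exact ⟨fun ⟨x, hx⟩ => ⟨Subgroup.inclusion hD x, x.2, hx⟩, fun ⟨x, hx, e⟩ => ⟨⟨x, hx⟩, e⟩⟩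
    rw [← hfr, ← Nat.card_congr (QuotientGroup.quotientKerEquivRange f).toEquiv,
      Subgroup.card_eq_card_quotient_mul_card_subgroup f.ker]
    congr 1
    exact Nat.card_congr
      { toFun := fun a => ⟨(a.1 : G), ⟨hD a.1.2, congrArg Subtype.val a.2⟩, a.1.2⟩
        invFun := fun a => ⟨⟨a.1, a.2.2⟩, Subtype.ext a.2.1.2⟩
        left_inv := fun a => rfl
        right_inv := fun a => rfl }
  have hVcard : Nat.card ↥V = Nat.card ↥Vp * Nat.card ↥W := by
    rw [hpw V le_rfl, inf_eq_left.2 hWV]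
    congr 1
    rw [Subgroup.subgroupOf_self, ← MonoidHom.range_eq_map, show pw.range = ⊤ from MonoidHom.range_eq_top.2
      (fun ⟨_, v, hv, rfl⟩ => ⟨⟨v, hv⟩, rfl⟩), Subgroup.card_top]
  -- the setting
  have hA₀ne : A₀.map π ≠ ⊥ := fun e => hA₀C fun a ha => (hπ1 a).1 (Subgroup.mem_bot.1 (e ▸ ⟨a, ha, rfl⟩))
  have hAb : ∀ A ∈ maxAdm 0 (S : Subgroup G), A.map π ≤ (T : Subgroup (G ⧸ C₁)) ∧
      IsPGroup p ↥(A.map π) ∧ ∀ a ∈ A.map π, ∀ b ∈ A.map π, a * b = b * a := fun A hA =>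
    ⟨hT ▸ Subgroup.map_mono hA.1, (S.2.to_le hA.1).map π, by
      rintro _ ⟨a, ha, rfl⟩ _ ⟨b, hb, rfl⟩
      rw [← map_mul, ← map_mul, adm_comm hA.2.1 ha hb]⟩
  have hlow : ∀ A ∈ maxAdm 0 (S : Subgroup G), Nat.card (Additive ↥W) ≤
      Nat.card ↥(A.map π) * Nat.card ↥(fx (Additive ↥W) (A.map π)) := by
    intro A hA
    obtain ⟨h1, h2⟩ := hcount A hA
    rw [h1, show Nat.card (Additive ↥W) = Nat.card ↥W from rfl]
    have h3 := hpw (V ⊓ A) inf_le_left
    rw [← inf_assoc, inf_eq_left.2 hWV] at h3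
    have h4 : Nat.card ↥((V ⊓ A).subgroupOf V |>.map pw) ≤ Nat.card ↥Vp := Subgroup.card_le_card_group _
    rw [hVcard, h3] at h2
    refine Nat.le_of_mul_le_mul_left (h2.trans ?_) (Nat.card_pos (α := ↥Vp))
    calc _ ≤ Nat.card ↥(A.map π) * (Nat.card ↥Vp * Nat.card ↥(W ⊓ A : Subgroup G)) :=
          Nat.mul_le_mul_left _ (Nat.mul_le_mul_right _ h4)
      _ = _ := by rw [mul_left_comm]
  obtain ⟨B, -, hB⟩ := exists_member (p := p) (M := Additive ↥W) hA₀ne (hAb A₀ hA₀).2.1 (hAb A₀ hA₀).2.2 (hlow A₀ hA₀)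
  have hset : Setting p T Mx (Additive ↥W) :=
    Setting.of_offender hexp hfaith hsyl hproper hun hcore ⟨B, hB⟩
  have hJVp : jGen 0 (S : Subgroup G) ≤ Subgroup.centralizer (Vp : Set G) := sSup_le fun A hA => by
    obtain ⟨h1, h2⟩ := hcount A hA
    have hup := (hset.bound _ (A.map π) (Nat.lt_succ_self _) (hAb A hA).1 (hAb A hA).2.2).1
    rw [h1, show Nat.card (Additive ↥W) = Nat.card ↥W from rfl] at hup
    have h3 := hpw (V ⊓ A) inf_le_left
    rw [← inf_assoc, inf_eq_left.2 hWV] at h3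
    rw [hVcard, h3] at h2
    have h4 : Nat.card ↥Vp ≤ Nat.card ↥(((V ⊓ A).subgroupOf V).map pw) := by
      refine Nat.le_of_mul_le_mul_right (h2.trans ?_) (Nat.card_pos (α := ↥W))
      calc _ = Nat.card ↥(((V ⊓ A).subgroupOf V).map pw) *
            (Nat.card ↥(A.map π) * Nat.card ↥(W ⊓ A : Subgroup G)) := by rw [mul_left_comm]
        _ ≤ _ := Nat.mul_le_mul_left _ hup
    have h5 := Subgroup.eq_top_of_le_card _ h4
    intro a ha
    refine Subgroup.mem_centralizer_iff.2 fun y hy => ?_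
    obtain ⟨w, hw, hwy⟩ := h5.ge (Subgroup.mem_top (⟨y, hy⟩ : ↥Vp))
    rw [← show (w : G) ^ p = y from congrArg Subtype.val hwy]
    exact (Commute.pow_left (show Commute (w : G) a from adm_comm hA.2.1 hw.2 ha) p).eq
  have hppVp : ∀ g : G, ¬ p ∣ orderOf g → g ∈ Subgroup.centralizer (Vp : Set G) := by
    intro g hgo
    set K := Subgroup.centralizer (Vp : Set G) with hKdef
    have h1 : g ∈ K ⊔ (S : Subgroup G) := hK K inferInstance hJVp ▸ Subgroup.mem_top g
    rw [← SetLike.mem_coe, Subgroup.normal_mul] at h1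
    obtain ⟨k, hk, s, hs, rfl⟩ := Set.mem_mul.1 h1
    obtain ⟨n, hn⟩ := S.2 ⟨s, hs⟩
    have hn' : s ^ (p ^ n) = 1 := congrArg Subtype.val hn
    set q := QuotientGroup.mk' K
    have hq1 : q (k * s) ^ (p ^ n) = 1 := by
      rw [map_mul, show q k = 1 from (QuotientGroup.eq_one_iff k).2 hk, one_mul, ← map_pow, hn', map_one]
    have h2 := Nat.dvd_gcd (orderOf_dvd_of_pow_eq_one hq1) (orderOf_map_dvd q (k * s))
    rw [((Fact.out : p.Prime).coprime_iff_not_dvd.2 hgo).pow_left n |>.gcd_eq_one] at h2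
    exact (QuotientGroup.eq_one_iff _).1 (orderOf_eq_one_iff.1 (Nat.dvd_one.1 h2))
  -- the torus
  obtain ⟨z, g, U, hd⟩ := exists_torus hset hp ⟨B, hB⟩
  have hZc' : ∀ t ∈ (T : Subgroup (G ⧸ C₁)), ∀ (v : G) (hv : v ∈ W), v ∈ Z → t • el v hv = el v hv := by
    intro t ht v hv hvZ
    obtain ⟨s, hs, rfl⟩ := hT ▸ ht
    exact (hfixiff s v hv).2 (hZc s hs v hvZ)
  have hnT : ∀ x : G ⧸ C₁, x ∈ Subgroup.normalizer ((T : Subgroup (G ⧸ C₁)) : Set (G ⧸ C₁)) → x ∈ Mx := by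
    intro x hx
    refine hun _ Subgroup.le_normalizer (fun e => ?_) hx
    haveI := Subgroup.normalizer_eq_top_iff.1 e
    exact hA₀ne (le_bot_iff.1 ((hAb A₀ hA₀).1.trans (hcore _ inferInstance T.2).le))
  have hlift : ∀ x : G ⧸ C₁, x ∈ Mx → ¬ p ∣ orderOf x →
      ∃ y : G, π y ∈ Subgroup.zpowers x ∧ ¬ p ∣ orderOf y ∧ y ∈ NZ ∧ x ∈ Subgroup.zpowers (π y) := by
    intro x hx hxo
    obtain ⟨n, hn, rfl⟩ := hx
    obtain ⟨m, k, hk, -, -⟩ := exists_split (p := p) n
    refine ⟨n ^ (p ^ k), by rw [map_pow]; exact Subgroup.npow_mem_zpowers _ _, hk, NZ.pow_mem hn _, ?_⟩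
    obtain ⟨i, hi⟩ := exists_pow_eq_self_of_coprime (x := π n) (n := p ^ k)
      (Nat.Coprime.pow_left _ ((Fact.out : p.Prime).coprime_iff_not_dvd.2 hxo))
    rw [map_pow]
    exact ⟨i, by simpa using hi⟩
  obtain ⟨x, hxz, hxo, hxN, hgx⟩ := hlift g (hnT g hd.gnorm) hd.gord
  -- commutators with `Z`
  have hcm : ∀ y : G, ¬ p ∣ orderOf y → y ∈ NZ → ∀ t ∈ Z,
      y * t * y⁻¹ * t⁻¹ ∈ Z ∧ y * t * y⁻¹ * t⁻¹ ∈ W := by
    intro y hyo hy t ht
    have h1 : y * t * y⁻¹ * t⁻¹ ∈ Z := Z.mul_mem ((Subgroup.mem_normalizer_iff.1 hy t).1 ht) (Z.inv_mem ht)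
    refine ⟨h1, hZV h1, ?_⟩
    have hc : Commute (y * t * y⁻¹) t⁻¹ :=
      hVab _ (hZV ((Subgroup.mem_normalizer_iff.1 hy t).1 ht)) _ (V.inv_mem (hZV ht))
    rw [hc.mul_pow, conj_pow, ← Subgroup.mem_centralizer_iff.1 (hppVp y hyo) _ ⟨t, hZV ht, rfl⟩,
      mul_inv_cancel_right, inv_pow, mul_inv_cancel]
  have hUfix : ∀ (v : G) (hv : v ∈ W), v ∈ Z → ∃ u ∈ U, (∀ t ∈ (T : Subgroup (G ⧸ C₁)), t • u = u) ∧
      z • (el v hv - u) = el v hv - u ∧ g • (el v hv - u) = el v hv - u := fun v hv hvZ =>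
    hd.split _ fun t ht => hZc' t ht v hv hvZ
  have hact : ∀ (y v : G) (hv : v ∈ W), π y • el v hv = el (y * v * y⁻¹) (hWn.conj_mem v hv y) := fun _ _ _ => rfl
  have heldiff : ∀ (a b : G) (ha : a ∈ W) (hb : b ∈ W), el (a * b⁻¹) (W.mul_mem ha (W.inv_mem hb)) = el a ha - el b hb :=
    fun a b ha hb => by rw [sub_eq_add_neg]; rfl
  have hord2 : ¬ p ∣ orderOf z := fun hdd => by
    have h1 : orderOf z ∣ 2 := orderOf_dvd_of_pow_eq_one (by rw [pow_two]; exact hd.zsq)
    exact hp ((Nat.prime_dvd_prime_iff_eq Fact.out Nat.prime_two).1 (hdd.trans h1))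
  have hzT : z ∈ Subgroup.normalizer ((T : Subgroup (G ⧸ C₁)) : Set (G ⧸ C₁)) :=
    CfsgLib.Fusion.mem_normalizer_of_forall fun t ht => by rw [← hd.comm t, mul_inv_cancel_right]; exact ht
  obtain ⟨x₀, hx₀z, hx₀o, hx₀N, hzx₀⟩ := hlift z (hnT z hzT) hord2
  -- `Z` meets the fixed part of `U`
  obtain ⟨v₀, hv₀W, hv₀Z, hv₀1, hv₀U⟩ : ∃ v : G, ∃ hv : v ∈ W, v ∈ Z ∧ v ≠ 1 ∧ el v hv ∈ U := by
    by_contra hc
    have hzt : ∀ t ∈ Z, x₀ * t = t * x₀ := by
      intro t ht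
      obtain ⟨hdZ, hdW⟩ := hcm x₀ hx₀o hx₀N t ht
      set d := x₀ * t * x₀⁻¹ * t⁻¹ with hddef
      obtain ⟨u, huU, -, hzw, -⟩ := hUfix d hdW hdZ
      have hpz : π x₀ • el d hdW = el d hdW := by
        obtain ⟨i, hi⟩ := Subgroup.mem_zpowers_iff.1 hx₀z
        have hzd : z • el d hdW = el d hdW := by
          by_contra hne'
          obtain ⟨j, hj⟩ := Subgroup.mem_zpowers_iff.1 hzx₀
          have hmemU : z • el d hdW - el d hdW ∈ U := by
            have e : z • el d hdW - el d hdW = z • u - u := by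
              rw [smul_sub] at hzw
              rw [sub_eq_sub_iff_sub_eq_sub, hzw]
            rw [e]; exact sub_mem (hd.inv z u huU) huU
          obtain ⟨y, hy, hyN⟩ : ∃ y : G, π y = z ∧ y ∈ NZ := ⟨x₀ ^ j, by rw [map_zpow, hj], NZ.zpow_mem hx₀N j⟩
          have e1 : el (y * d * y⁻¹ * d⁻¹) (W.mul_mem (hWn.conj_mem d hdW y) (W.inv_mem hdW)) =
              z • el d hdW - el d hdW := by
            rw [heldiff _ _ (hWn.conj_mem d hdW y) hdW, ← hact, hy]
          refine hc ⟨_, W.mul_mem (hWn.conj_mem d hdW y) (W.inv_mem hdW),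
            Z.mul_mem ((Subgroup.mem_normalizer_iff.1 hyN d).1 hdZ) (Z.inv_mem hdZ), fun e => hne' ?_, e1 ▸ hmemU⟩
          refine sub_eq_zero.1 (e1 ▸ ?_)
          exact congrArg Additive.ofMul (Subtype.ext e)
        have hmem : π x₀ ∈ MulAction.stabilizer (G ⧸ C₁) (el d hdW) :=
          Subgroup.zpowers_le.2 (show z ∈ MulAction.stabilizer (G ⧸ C₁) (el d hdW) from hzd) hx₀z
        exact hmem
      have hcd : x₀ * d = d * x₀ := (hfixiff x₀ d hdW).1 hpz
      have hz2 : π (x₀ * x₀) = 1 := by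
        obtain ⟨i, hi⟩ := Subgroup.mem_zpowers_iff.1 hx₀z
        rw [map_mul, ← hi, ← zpow_add, ← two_mul, zpow_mul, zpow_two, hd.zsq, one_zpow]
      have h2t := Subgroup.mem_centralizer_iff.1 (hC₁C ((hπ1 _).1 hz2)) t (hZV ht)
      have e1 : x₀ * t * x₀⁻¹ = d * t := by rw [hddef, inv_mul_cancel_right]
      have e2 : d * d * t = t := by
        calc d * d * t = d * (x₀ * t * x₀⁻¹) := by rw [e1, mul_assoc]
          _ = (x₀ * d * x₀⁻¹) * (x₀ * t * x₀⁻¹) := by rw [hcd, mul_inv_cancel_right]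
          _ = x₀ * (d * t) * x₀⁻¹ := by group
          _ = x₀ * (x₀ * t * x₀⁻¹) * x₀⁻¹ := by rw [e1]
          _ = (x₀ * x₀) * t * (x₀ * x₀)⁻¹ := by group
          _ = t := by rw [← h2t, mul_inv_cancel_right]
      rw [mul_eq_right] at e2
      have h3 := Nat.dvd_gcd (orderOf_dvd_of_pow_eq_one (show d ^ 2 = 1 by rw [pow_two, e2]))
        (orderOf_dvd_of_pow_eq_one hdW.2)
      rw [(Nat.coprime_primes Nat.prime_two Fact.out).2 (Ne.symm hp)] at h3
      have h4 : d = 1 := orderOf_eq_one_iff.1 (Nat.dvd_one.1 h3)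
      rw [hddef, mul_inv_eq_one, mul_inv_eq_iff_eq_mul] at h4
      exact h4
    have hz1 : π x₀ = 1 := (hπ1 x₀).2 (hCC₁ (Subgroup.mem_centralizer_iff.2 fun v hv => by
      induction hv using Subgroup.closure_induction with
      | mem v hv =>
        obtain ⟨t, ht, hconj⟩ := Group.mem_conjugatesOfSet_iff.1 hv
        obtain ⟨c, rfl⟩ := _root_.isConj_iff.1 hconj
        have hcc : c⁻¹ * x₀ * c * x₀⁻¹ ∈ C := hC₁C ((hπ1 _).1 (by
          obtain ⟨i, hi⟩ := Subgroup.mem_zpowers_iff.1 hx₀z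
          rw [map_mul, map_mul, map_mul, map_inv, map_inv, ← hi]
          have hcz : Commute (π c) (z ^ i) := Commute.zpow_right (hd.comm (π c)) i
          rw [mul_assoc (π c)⁻¹, ← hcz.eq, inv_mul_cancel_left, mul_inv_cancel]))
        generalize hy : c⁻¹ * x₀ * c * x₀⁻¹ = y at hcc
        have h1 : x₀ = c * (y * x₀) * c⁻¹ := by rw [← hy]; group
        have h2 : Commute (y * x₀) t :=
          Commute.mul_left (Subgroup.mem_centralizer_iff.1 hcc t (hZV ht)).symm (hzt t ht)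
        generalize hw : y * x₀ = w at h1 h2
        calc c * t * c⁻¹ * x₀ = c * (t * w) * c⁻¹ := by rw [h1]; group
          _ = c * (w * t) * c⁻¹ := by rw [h2.eq]
          _ = x₀ * (c * t * c⁻¹) := by rw [h1]; group
      | one => rw [one_mul, mul_one]
      | mul a b _ _ ha hb => rw [mul_assoc, hb, ← mul_assoc, ha, mul_assoc]
      | inv a _ ha => exact (Commute.inv_left ha).eq))
    obtain ⟨j, hj⟩ := Subgroup.mem_zpowers_iff.1 hzx₀
    rw [hz1, one_zpow] at hj
    exact hd.zne hj.symm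
  let L : Subgroup G :=
    { carrier := {v | ∃ hv : v ∈ W, el v hv ∈ U ∧ ∀ t ∈ (T : Subgroup (G ⧸ C₁)), t • el v hv = el v hv}
      one_mem' := ⟨W.one_mem, U.zero_mem, fun t _ => smul_zero t⟩
      mul_mem' := fun {a b} ⟨ha, ha', ha''⟩ ⟨hb, hb', hb''⟩ => ⟨W.mul_mem ha hb, U.add_mem ha' hb', fun t ht => by
        show t • (el a ha + el b hb) = el a ha + el b hb
        rw [smul_add, ha'' t ht, hb'' t ht]⟩
      inv_mem' := fun {a} ⟨ha, ha', ha''⟩ => ⟨W.inv_mem ha, U.neg_mem ha', fun t ht => by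
        show t • (-el a ha) = -el a ha
        rw [smul_neg, ha'' t ht]⟩ }
  have hgpow : ∀ i : ℕ, ∃ j : ℕ, π (x ^ j) = g ^ i := fun i => by
    have h1 : g ^ i ∈ Subgroup.zpowers (π x) := Subgroup.pow_mem _ hgx i
    obtain ⟨j, hj⟩ := mem_powers_iff_mem_zpowers.2 h1
    exact ⟨j, by rw [map_pow]; exact hj⟩
  have htr : ∀ a ∈ L, ∀ b ∈ L, a ≠ 1 → b ≠ 1 → ∃ i : ℕ, x ^ i * a * (x ^ i)⁻¹ = b := by
    rintro a ⟨haW, haU, haT⟩ b ⟨hbW, hbU, hbT⟩ ha1 hb1
    obtain ⟨i, hi⟩ := hd.trans (el a haW) haU (el b hbW) hbU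
      (fun e => ha1 (congrArg (fun m => ((Additive.toMul m : ↥W) : G)) e))
      (fun e => hb1 (congrArg (fun m => ((Additive.toMul m : ↥W) : G)) e)) haT hbT
    obtain ⟨j, hj⟩ := hgpow i
    refine ⟨j, ?_⟩
    rw [← hj, hact] at hi
    exact congrArg (fun m => ((Additive.toMul m : ↥W) : G)) hi
  refine ⟨x, L, hxN, hxo, fun i t ht => ?_, ?_, htr⟩
  · -- the commutators lie in `L`
    set y := x ^ i
    have hyo : ¬ p ∣ orderOf y := fun hdd => hxo (hdd.trans (orderOf_pow_dvd i))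
    obtain ⟨hdZ, hdW⟩ := hcm y hyo (NZ.pow_mem hxN i) t ht
    set d := y * t * y⁻¹ * t⁻¹ with hddef
    refine ⟨hdW, ?_, fun s hs => hZc' s hs d hdW hdZ⟩
    obtain ⟨u, huU, -, -, hgw⟩ := hUfix d hdW hdZ
    have hyw : π y • (el d hdW - u) = el d hdW - u := by
      have h1 : π y ∈ Subgroup.zpowers g := by rw [map_pow]; exact Subgroup.pow_mem _ hxz i
      exact Subgroup.zpowers_le.2 (show g ∈ MulAction.stabilizer (G ⧸ C₁) (el d hdW - u) from hgw) h1
    generalize hc : el d hdW - u = c at hyw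
    have hit : ∀ k : ℕ, ∃ hk : y ^ k * t * (y ^ k)⁻¹ * t⁻¹ ∈ W, el _ hk - k • c ∈ U := by
      intro k
      induction k with
      | zero =>
        refine ⟨by simp [W.one_mem], ?_⟩
        convert U.zero_mem using 1
        rw [zero_nsmul, sub_zero]
        exact congrArg Additive.ofMul (Subtype.ext (by simp))
      | succ k ih =>
        obtain ⟨hk, hku⟩ := ih
        have e : y ^ (k + 1) * t * (y ^ (k + 1))⁻¹ * t⁻¹ = (y * (y ^ k * t * (y ^ k)⁻¹ * t⁻¹) * y⁻¹) * d := by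
          rw [hddef, pow_succ']; group
        refine ⟨e ▸ W.mul_mem (hWn.conj_mem _ hk y) hdW, ?_⟩
        have e' : el _ (e ▸ W.mul_mem (hWn.conj_mem _ hk y) hdW) = π y • el _ hk + el d hdW :=
          congrArg Additive.ofMul (Subtype.ext e)
        rw [e', succ_nsmul]
        have h1 := U.add_mem (hd.inv (π y) _ hku) huU
        rw [smul_sub, smul_comm (π y) k c, hyw] at h1
        convert h1 using 1
        rw [← hc]; abel
    obtain ⟨hk, hku⟩ := hit (orderOf y)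
    have h0 : el _ hk = 0 := congrArg Additive.ofMul (Subtype.ext (by simp [pow_orderOf_eq_one]))
    rw [h0, zero_sub, neg_mem_iff] at hku
    obtain ⟨a, ha⟩ : ∃ a : ℕ, a * orderOf y % p = 1 := by
      obtain ⟨a, -, ha⟩ := Nat.exists_mul_mod_eq_one_of_coprime
        ((Fact.out : p.Prime).coprime_iff_not_dvd.2 hyo).symm (Fact.out : p.Prime).one_lt
      exact ⟨a, by rw [mul_comm]; exact ha⟩
    have hcU : c ∈ U := by
      have h1 := U.nsmul_mem hku a
      rwa [← mul_nsmul, mul_comm, ← Nat.div_add_mod (a * orderOf y) p, ha, add_nsmul, one_nsmul, mul_nsmul,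
        hexp, nsmul_zero, zero_add] at h1
    have h2 := U.add_mem hcU huU
    rwa [← hc, sub_add_cancel] at h2
  · refine ⟨v₀, hv₀Z, fun hxv => ?_⟩
    have hv₀L : v₀ ∈ L := ⟨hv₀W, hv₀U, fun t ht => hZc' t ht v₀ hv₀W hv₀Z⟩
    have h1 : v₀⁻¹ ≠ 1 := inv_ne_one.2 hv₀1
    obtain ⟨i, hi⟩ := htr v₀ hv₀L v₀⁻¹ (L.inv_mem hv₀L) hv₀1 h1
    rw [((show Commute x v₀ from hxv).pow_left i).eq, mul_inv_cancel_right] at hi
    have h3 := Nat.dvd_gcd (orderOf_dvd_of_pow_eq_one (show v₀ ^ 2 = 1 by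
      rw [pow_two]; exact eq_inv_iff_mul_eq_one.1 hi)) (orderOf_dvd_of_pow_eq_one hv₀W.2)
    rw [(Nat.coprime_primes Nat.prime_two Fact.out).2 (Ne.symm hp)] at h3
    exact hv₀1 (orderOf_eq_one_iff.1 (Nat.dvd_one.1 h3))

/-- A central subgroup normalised by `N(J(S))` is normal or has a transitive torus. -/
theorem normal_or_good (hp : p ≠ 2) (S : Sylow p G)
    (hC : Subgroup.centralizer (pCore p G : Set G) ≤ pCore p G) {Z : Subgroup G}
    (hZS : Z ≤ (S : Subgroup G)) (hZc : ∀ s ∈ (S : Subgroup G), ∀ t ∈ Z, s * t = t * s)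
    (hJ : Subgroup.normalizer (jGen 0 (S : Subgroup G) : Set G) ≤ Subgroup.normalizer (Z : Set G)) :
    Subgroup.normalizer (Z : Set G) = ⊤ ∨ Good p Z := by
  suffices h : ∀ (n : ℕ) (G : Type u) [Group G] [Finite G] (S : Sylow p G), Nat.card G = n →
      Subgroup.centralizer (pCore p G : Set G) ≤ pCore p G → ∀ Z : Subgroup G, Z ≤ (S : Subgroup G) →
      (∀ s ∈ (S : Subgroup G), ∀ t ∈ Z, s * t = t * s) →
      Subgroup.normalizer (jGen 0 (S : Subgroup G) : Set G) ≤ Subgroup.normalizer (Z : Set G) →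
      Subgroup.normalizer (Z : Set G) = ⊤ ∨ Good p Z from h _ G S rfl hC Z hZS hZc hJ
  intro n
  induction n using Nat.strong_induction_on with
  | _ n ih =>
  intro G _ _ S hn hC Z hZS hZc hJ
  by_cases hne : Subgroup.normalizer (Z : Set G) = ⊤
  · exact Or.inl hne
  refine Or.inr ?_
  by_cases hG : Good p Z
  · exact hG
  refine good_of_minimal hp S hC hZS hZc hJ hne fun H hSH hH => ?_
  have hlt : Nat.card ↥H < n := hn ▸ lt_of_le_of_ne (Subgroup.card_le_card_group H)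
    (fun e => hH (Subgroup.eq_top_of_card_eq H e))
  have hZH : Z ≤ H := hZS.trans hSH
  have hO : pCore p G ≤ H := (Cores.pCore_le_sylow S).trans hSH
  haveI : ((pCore p G).subgroupOf H).Normal := Subgroup.Normal.subgroupOf inferInstance H
  have hO' : (pCore p G).subgroupOf H ≤ pCore p ↥H :=
    Cores.le_pCore ((Cores.isPGroup_pCore p).of_equiv (Subgroup.subgroupOfEquivOfLe hO).symm)
  have hCH : Subgroup.centralizer (pCore p ↥H : Set ↥H) ≤ pCore p ↥H := fun c hc => hO' (hC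
    (Subgroup.mem_centralizer_iff.2 fun o ho =>
      congrArg Subtype.val (Subgroup.mem_centralizer_iff.1 hc ⟨o, hO ho⟩ (hO' ho))))
  set S' := S.subtype hSH with hS'
  have hS'c : (S' : Subgroup ↥H) = (S : Subgroup G).subgroupOf H := rfl
  have hJH : Subgroup.normalizer (jGen 0 (S' : Subgroup ↥H) : Set ↥H) ≤
      Subgroup.normalizer ((Z.subgroupOf H : Subgroup ↥H) : Set ↥H) := by
    intro x hx
    have hmap : jGen 0 (S : Subgroup G) = (jGen 0 ((S' : Subgroup ↥H))).map H.subtype := by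
      rw [← jGen_map H.subtype_injective, hS'c, Subgroup.map_subgroupOf_eq_of_le hSH]
    have h1 : (x : G) ∈ Subgroup.normalizer (jGen 0 (S : Subgroup G) : Set G) := by
      rw [hmap]; exact Subgroup.le_normalizer_map H.subtype ⟨x, hx, rfl⟩
    refine CfsgLib.Fusion.mem_normalizer_of_forall fun t ht => ?_
    exact (Subgroup.mem_normalizer_iff.1 (hJ h1) t).1 ht
  rcases ih _ hlt ↥H S' rfl hCH (Z.subgroupOf H) (fun z hz => hZS hz)
      (fun s hs t ht => Subtype.ext (hZc s hs t ht)) hJH with h | h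
  · intro x hx
    have h1 : (⟨x, hx⟩ : ↥H) ∈ Subgroup.normalizer ((Z.subgroupOf H : Subgroup ↥H) : Set ↥H) :=
      h ▸ Subgroup.mem_top _
    refine CfsgLib.Fusion.mem_normalizer_of_forall fun t ht => ?_
    exact (Subgroup.mem_normalizer_iff.1 h1 ⟨t, hZH ht⟩).1 ht
  · refine absurd ?_ hG
    have := h.map H.subtype_injective
    rwa [Subgroup.map_subgroupOf_eq_of_le hZH] at this

end CfsgLib.Fusion.WeakZJ
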