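import Cfsg.Agent.Lib.Fusion.FunctorMaps
import Cfsg.Agent.Lib.Fusion.NormSys

/-!
# Ascent over the core of a system that is not constrained
-/

set_option autoImplicit false

open Cfsg Cfsg.FusionSystem
open scoped Pointwise

namespace CfsgLib.Fusion.WeakZJ

open CfsgLib.Fusion

variable {Ω : Type*} [Group Ω] {S : Subgroup Ω} {F : FusionSystem S} {p : ℕ} [Fact p.Prime] [Finite S]

omit [Fact p.Prime] in
/-- Maps on subgroups above the core permute it. -/
theorem img_core {P : Subgroup Ω} {φ : P →* Ω} (hφ : φ ∈ F.Hom P) (h : F.core ≤ P) :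
    img φ F.core = F.core := by
  have := finite_of_le (isNormal_core (F := F)).1
  refine Subgroup.eq_of_le_of_card_ge ?_ (card_img (F.injective_of_mem hφ) h).ge
  intro y hy
  obtain ⟨x, hx, rfl⟩ := mem_img.1 hy
  exact (stronglyClosed_of_isNormal isNormal_core).2 F.core le_rfl _ (res_mem F hφ h) ⟨x, hx⟩

omit [Fact p.Prime] in
/-- A map extends to the join with the core. -/
theorem exists_core_extension {P : Subgroup Ω} {φ : P →* Ω} (hφ : φ ∈ F.Hom P) :
    ∃ ψ ∈ F.Hom (P ⊔ F.core), ∀ x : P, ψ (Subgroup.inclusion le_sup_left x) = φ x := by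
  obtain ⟨ψ, h1, h2, -⟩ := (isNormal_core (F := F)).2 P φ hφ
  exact ⟨ψ, h1, h2⟩

/-- Reduction to centric subgroups over the core. -/
theorem le_of_centric (hS : IsPGroup p S) (hF : F.IsSaturated p) (E : FusionSystem S)
    (hES : F.autGroup S ≤ E.autGroup S)
    (hE : ∀ R : Subgroup Ω, R < S → F.IsFullyNormalized R → F.core ≤ R → centralizerIn S R ≤ R →
      F.autGroup R ≤ E.autGroup R) : F ≤ E := by
  refine alperin_induction hS hF E hES fun R hR hRn hbig => ?_
  have := finite_of_le hR.le
  intro α hα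
  have hαm := (mem_autGroup_iff F hR.le).1 hα
  by_cases hX : F.core ≤ R
  · by_cases hC : centralizerIn S R ≤ R
    · exact hE R hR hRn hX hC hα
    have hM : R ⊔ centralizerIn S R ≤ extender S R (R.subtype.comp (MulEquiv.toMonoidHom (M := R) (N := R) α)) :=
      sup_le (le_extender hαm) (centralizerIn_le_extender _ _)
    obtain ⟨ψ, hψ, hψe⟩ := exists_extension (M := R ⊔ centralizerIn S R)
      (e := (α : R ≃* R)) (fullyAutomized_receptive_of_fullyNormalized hS hF hRn).2 hαm le_sup_left hM
    have hlt : R < R ⊔ centralizerIn S R := lt_of_le_of_ne le_sup_left fun h => hC (le_trans le_sup_right h.ge)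
    have := finite_of_le (sup_le hR.le (centralizerIn_le (S := S) R))
    have hψE := hbig _ (lt_of_not_ge fun h => hlt.ne (Subgroup.eq_of_le_of_card_ge hlt.le h)) hψ
    exact mem_autGroup_of_mem E (res_mem E hψE le_sup_left) fun x => (hψe x).symm
  · obtain ⟨ψ, hψ, hψe⟩ := exists_core_extension hαm
    have hlt : R < R ⊔ F.core := lt_of_le_of_ne le_sup_left fun h => hX (le_trans le_sup_right h.ge)
    have := finite_of_le (sup_le hR.le (isNormal_core (F := F)).1)
    have hψE := hbig _ (lt_of_not_ge fun h => hlt.ne (Subgroup.eq_of_le_of_card_ge hlt.le h)) hψ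
    exact mem_autGroup_of_mem E (res_mem E hψE le_sup_left) fun x => (hψe x).symm

/-- A centric subgroup is not inside a core that is not centric. -/
theorem not_le_core {R : Subgroup Ω} (hnc : ¬ centralizerIn S F.core ≤ F.core) (hC : centralizerIn S R ≤ R) :
    ¬ R ≤ F.core := fun h =>
  hnc fun c hc => h (hC ⟨hc.1, fun y hy => hc.2 y (h hy)⟩)

/-- The normalizer of a subgroup outside the core contains more of the centralizer of the core. -/
theorem not_centralizer_le (hS : IsPGroup p S) (hnc : ¬ centralizerIn S F.core ≤ F.core)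
    {U : Subgroup Ω} (hU : U ≤ S) (hXU : F.core ≤ U) :
    ¬ normalizerIn S U ⊓ Subgroup.centralizer (F.core : Set Ω) ≤ F.core := by
  intro hc
  set Y := centralizerIn S F.core with hY
  by_cases hYU : Y ≤ U
  · exact hnc fun y hy => hc ⟨le_normalizerIn hU (hYU hy), hy.2⟩
  have hYn : S ≤ Subgroup.normalizer (Y : Set Ω) := by
    intro s hs
    have := finite_of_le (centralizerIn_le (S := S) F.core)
    refine mem_normalizer_of_forall fun y hy => ⟨S.mul_mem (S.mul_mem hs hy.1) (S.inv_mem hs), fun x hx => ?_⟩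
    have hx' := conj_mem_of_mem_normalizer (Subgroup.inv_mem _
      (le_normalizer_of_stronglyClosed (stronglyClosed_of_isNormal (isNormal_core (F := F))) hs)) hx
    have h2 := hy.2 _ hx'
    calc x * (s * y * s⁻¹) = s * ((s⁻¹ * x * s⁻¹⁻¹) * y) * s⁻¹ := by group
      _ = s * (y * (s⁻¹ * x * s⁻¹⁻¹)) * s⁻¹ := by rw [h2]
      _ = s * y * s⁻¹ * x := by group
  have hlt : U < U ⊔ Y := lt_of_le_of_ne le_sup_left fun h => hYU (le_trans le_sup_right h.ge)
  have hWS : U ⊔ Y ≤ S := sup_le hU (centralizerIn_le _)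
  have := finite_of_le hWS
  obtain ⟨w, hwW, hwU, hwn⟩ : ∃ w ∈ U ⊔ Y, w ∉ U ∧ w ∈ Subgroup.normalizer (U : Set Ω) := by
    obtain ⟨w, hw, hw'⟩ := SetLike.exists_of_lt (lt_normalizerIn (S := U ⊔ Y) (hS.to_le hWS) hlt)
    exact ⟨w, hw.1, hw', hw.2⟩
  obtain ⟨u, hu, y, hy, rfl⟩ : ∃ u ∈ U, ∃ y ∈ Y, u * y = w := by
    have h1 : (↑(U ⊔ Y) : Set Ω) = (U : Set Ω) * (Y : Set Ω) :=
      Subgroup.coe_mul_of_left_le_normalizer_right U Y (hU.trans hYn)
    have h2 : w ∈ (U : Set Ω) * (Y : Set Ω) := h1 ▸ hwW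
    exact Set.mem_mul.1 h2
  have hyn : y ∈ normalizerIn S U := ⟨hy.1, by
    have := Subgroup.mul_mem _ (Subgroup.inv_mem _ (Subgroup.le_normalizer hu)) hwn
    simpa using this⟩
  exact hwU (U.mul_mem hu (hXU (hc ⟨hyn, hy.2⟩)))

/-- Ascent over the core: the maps of `F` lie in `E` when those normalizing `W S` do and those of
`N_F(U)`, `U` above the core, follow from those normalizing `W (N_S U)`. -/
theorem le_of_ascend_core (hS : IsPGroup p S) (hF : F.IsSaturated p) (W : Subgroup Ω → Subgroup Ω)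
    (hnc : ¬ centralizerIn S F.core ≤ F.core)
    (hWle : ∀ T ≤ S, F.core ≤ T → W T ≤ T)
    (hWn : ∀ T ≤ S, F.core ≤ T → normalizerIn S T ≤ normalizerIn S (W T))
    (hWc : ∀ T ≤ S, F.core ≤ T → ¬ T ⊓ Subgroup.centralizer (F.core : Set Ω) ≤ F.core →
      F.core ≤ W T ∧ ¬ W T ≤ F.core)
    (E : FusionSystem S) (hN : ∀ P, F.normalizerHom (W S) P ⊆ E.Hom P)
    (hES : F.autGroup S ≤ E.autGroup S)
    (hIH : ∀ U, F.core ≤ U → ¬ U ≤ F.core → F.IsFullyNormalized U →
      (∀ P, ∀ φ ∈ F.normalizerHom U P, φ ∈ F.normalizerHom (W (normalizerIn S U)) P → φ ∈ E.Hom P) →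
      ∀ P, F.normalizerHom U P ⊆ E.Hom P) : F ≤ E := by
  have hclaim : ∀ (n : ℕ) (U : Subgroup Ω), F.core ≤ U → ¬ U ≤ F.core → F.IsFullyNormalized U →
      Nat.card S - Nat.card (normalizerIn S U) ≤ n → ∀ P, F.normalizerHom U P ⊆ E.Hom P := by
    intro n
    induction n using Nat.strong_induction_on with
    | _ n ih =>
    intro U hXU hUX hUn hn
    set T := normalizerIn S U with hT
    have hTS : T ≤ S := normalizerIn_le U
    have := finite_of_le hTS
    have hXT : F.core ≤ T := hXU.trans (le_normalizerIn hUn.1)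
    have hY := not_centralizer_le hS hnc hUn.1 hXU
    refine hIH U hXU hUX hUn fun P φ hφ hφW => ?_
    rcases eq_or_lt_of_le hTS with hTeq | hlt
    · rw [← hT, hTeq] at hφW
      exact hN P hφW
    have hsmall : ∀ V : Subgroup Ω, F.core ≤ V → ¬ V ≤ F.core → F.IsFullyNormalized V →
        Nat.card T < Nat.card (normalizerIn S V) → ∀ P, F.normalizerHom V P ⊆ E.Hom P := by
      intro V hXV hV hVn hlt'
      have := Subgroup.card_le_of_le (normalizerIn_le (S := S) V)
      exact ih (Nat.card S - Nat.card (normalizerIn S V)) (by omega) V hXV hV hVn le_rfl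
    have hbig : F ≤ thresholdSys F E (Nat.card T) := by
      refine le_of_centric hS hF _ ?_ ?_
      · intro α hα
        exact mem_autGroup_of_mem (φ := S.subtype.comp α.toMonoidHom) _
          ⟨(mem_autGroup_iff F le_rfl).1 hα, fun _ => (mem_autGroup_iff E le_rfl).1 (hES hα)⟩ fun _ => rfl
      · intro R hR hRn hXR hRC α hα
        refine mem_autGroup_of_mem (φ := R.subtype.comp α.toMonoidHom) _
          ⟨(mem_autGroup_iff F hR.le).1 hα, fun hn' => ?_⟩ fun _ => rfl
        have := finite_of_le (normalizerIn_le (S := S) R)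
        exact hsmall R hXR (not_le_core hnc hRC) hRn
          (hn'.trans_le (Subgroup.card_le_of_le (le_normalizerIn hR.le))) R
          (mem_normalizerHom_self hR.le hα)
    -- move `W T` to a fully normalized conjugate
    set V := W T with hV
    obtain ⟨hWX, hWne'⟩ := hWc T hTS hXT hY
    have hVS : V ≤ S := (hWle T hTS hXT).trans hTS
    obtain ⟨V', hconj, hV'n⟩ := exists_fullyNormalized F hVS
    set M := normalizerIn S V with hM
    obtain ⟨f, hVN, hf, ψ, hψ, hψf, hψN⟩ :=
      exists_hom_normalizerIn_of_fullyNormalized hS hF hV'n hconj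
    have hMS : M ≤ S := normalizerIn_le V
    have := finite_of_le hMS
    have hTM : T < M := lt_of_lt_of_le (lt_normalizerIn hS hlt) (hWn T hTS hXT)
    have hcardM : Nat.card T < Nat.card M :=
      lt_of_not_ge fun h => hTM.ne (Subgroup.eq_of_le_of_card_ge hTM.le h)
    have hψE : ψ ∈ E.Hom M := (hbig M hψ).2 (by convert hcardM)
    have hXV' : F.core ≤ V' := by
      rw [← (img_congr (φ := V'.subtype.comp f.toMonoidHom) hVN hψf).trans (range_subtype_comp f)]
      intro y hy
      obtain ⟨x, hx, hxe⟩ := mem_img.1 ((img_core hψ (hWX.trans hVN)).ge hy)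
      exact mem_img.2 ⟨x, hWX hx, hxe⟩
    have hV'X : ¬ V' ≤ F.core := fun h => hWne' (by
      have := finite_of_le hVS
      have := finite_of_le (isNormal_core (F := F)).1
      exact (Subgroup.eq_of_le_of_card_ge hWX
        ((card_eq_of_isConj hconj).le.trans (Subgroup.card_le_of_le h))).ge)
    have hV'N : Nat.card T < Nat.card (normalizerIn S V') := by
      have := finite_of_le (normalizerIn_le (S := S) V')
      refine hcardM.trans_le (Nat.card_le_card_of_injective
        (fun x => (⟨ψ x, hψN x⟩ : normalizerIn S V')) fun a b hab => ?_)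
      exact F.injective_of_mem hψ (congrArg Subtype.val hab)
    obtain ⟨e, he, hee, heV⟩ := exists_iso_of_normalizerHom hφW
    have hAM : P ⊔ V ≤ M := sup_le (hφW.2.1) hVN
    have hBM : φ.range ⊔ V ≤ M :=
      sup_le (by rintro _ ⟨x, rfl⟩; exact hφW.2.2.1 x) hVN
    obtain ⟨gA, hgA, hgAe⟩ := exists_iso_of_mem (res_mem F hψ hAM)
    obtain ⟨gB, hgB, hgBe⟩ := exists_iso_of_mem (res_mem F hψ hBM)
    have hgAE : IsIso E gA := isIso_of_mem (res_mem E hψE hAM) hgAe
    have hgBE : IsIso E gB := isIso_of_mem (res_mem E hψE hBM) hgBe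
    have hfV : img ψ V = V' := by
      rw [img_congr (φ := V'.subtype.comp f.toMonoidHom) hVN hψf]
      exact range_subtype_comp f
    have himgA : img ((ψ.comp (Subgroup.inclusion hAM)).range.subtype.comp gA.toMonoidHom) V = V' := by
      rw [show (ψ.comp (Subgroup.inclusion hAM)).range.subtype.comp gA.toMonoidHom =
        ψ.comp (Subgroup.inclusion hAM) from MonoidHom.ext hgAe, img_res ψ hAM le_sup_right, hfV]
    have himgB : img ((ψ.comp (Subgroup.inclusion hBM)).range.subtype.comp gB.toMonoidHom) V = V' := by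
      rw [show (ψ.comp (Subgroup.inclusion hBM)).range.subtype.comp gB.toMonoidHom =
        ψ.comp (Subgroup.inclusion hBM) from MonoidHom.ext hgBe, img_res ψ hBM le_sup_right, hfV]
    set c := (gA.symm.trans e).trans gB with hc
    have hcF : IsIso F c := (hgA.symm.trans he).trans hgB
    have hcV : img ((ψ.comp (Subgroup.inclusion hBM)).range.subtype.comp c.toMonoidHom) V' = V' := by
      rw [hc, img_trans, img_trans, img_symm gA le_sup_right himgA, heV, himgB]
    have hcE : IsIso E c := by
      refine hsmall V' hXV' hV'X hV'n hV'N _ (mem_normalizerHom_of_img hcF le_rfl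
        (himgA ▸ range_subtype_comp_le gA V) hcV (fun _ => rfl) ?_ fun x => ?_)
      · rintro _ ⟨x, rfl⟩
        exact hψN _
      · obtain ⟨y, hy⟩ := (c x).2
        change (c x : Ω) ∈ _
        rw [← hy]
        exact hψN _
    have heE : IsIso E e := ((hgAE.trans hcE).trans hgBE.symm).congr fun x => by simp [hc]
    exact mem_of_eq rfl (res_mem E heE le_sup_left) fun x => (hee x).symm
  refine le_of_centric hS hF E hES fun R hR hRn hXR hRC α hα => ?_
  exact (mem_autGroup_iff E hR.le).2
    (hclaim _ R hXR (not_le_core hnc hRC) hRn le_rfl R (mem_normalizerHom_self hR.le hα))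

end CfsgLib.Fusion.WeakZJ
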