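import Cfsg.Agent.Lib.Fusion.WeakZJ.Ascend
import Cfsg.Agent.Lib.Fusion.WeakZJ.Group
import Cfsg.Agent.Lib.Fusion.FunctorModel
import Cfsg.Agent.Lib.Fusion.FunctorNormal

/-!
A central subgroup whose normalizer system contains that of `J(S)`: weakly closed or transitive torus.
-/

set_option autoImplicit false
set_option linter.unusedSectionVars false

open Cfsg Cfsg.FusionSystem
open scoped Pointwise

universe u

namespace CfsgLib.Fusion.WeakZJ

open CfsgLib.Fusion
open CfsgLib.PStab (maxAdm jGen jGen_le le_jGen jGen_map adm_comm maxAdm_map)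

variable {Ω : Type u} [Group Ω] {S : Subgroup Ω}

theorem maxAdm_nonempty' {D : Subgroup Ω} [Finite D] : (maxAdm 0 D).Nonempty := by
  obtain ⟨A, hA⟩ := CfsgLib.PStab.maxAdm_nonempty 0 (⊤ : Subgroup ↥D)
  refine ⟨A.map D.subtype, ?_⟩
  have e : (⊤ : Subgroup ↥D).map D.subtype = D := by rw [← MonoidHom.range_eq_map, Subgroup.range_subtype]
  have h2 : A.map D.subtype ∈ maxAdm 0 ((⊤ : Subgroup ↥D).map D.subtype) := by
    rw [maxAdm_map D.subtype_injective]
    exact ⟨A, hA, rfl⟩
  rwa [e] at h2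

theorem mem_of_commute' {D A : Subgroup Ω} [Finite D] (hA : A ∈ maxAdm 0 D) {x : Ω} (hxD : x ∈ D)
    (hx : ∀ a ∈ A, x * a = a * x) : x ∈ A := by
  have hcm : ∀ u ∈ insert x (A : Set Ω), ∀ v ∈ insert x (A : Set Ω), u * v = v * u := by
    rintro u (rfl | hu) v (rfl | hv)
    · rfl
    · exact hx v hv
    · exact (hx u hu).symm
    · exact adm_comm hA.2.1 hu hv
  set B := Subgroup.closure (insert x (A : Set Ω))
  have hAB : A ≤ B := fun a ha => Subgroup.subset_closure (Set.mem_insert_of_mem x ha)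
  have hBD : B ≤ D := (Subgroup.closure_le _).2 (Set.insert_subset hxD hA.1)
  have := finite_of_le hBD
  have hcard := hA.2.2 B hBD ⟨Subgroup.isMulCommutative_closure hcm, fun b _ => pow_zero b⟩
  rw [Subgroup.eq_of_le_of_card_ge hAB hcard]
  exact Subgroup.subset_closure (Set.mem_insert x _)

theorem jGen_eq' {D S : Subgroup Ω} [Finite S] (h1 : jGen 0 S ≤ D) (h2 : D ≤ S) : jGen 0 D = jGen 0 S := by
  obtain ⟨A₀, hA₀⟩ := maxAdm_nonempty' (D := S)
  have h : maxAdm 0 D = maxAdm 0 S := by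
    ext A
    constructor
    · intro hA
      refine ⟨hA.1.trans h2, hA.2.1, fun B hB hBa => (hA₀.2.2 B hB hBa).trans ?_⟩
      exact hA.2.2 A₀ ((le_jGen hA₀).trans h1) hA₀.2.1
    · intro hA
      exact ⟨(le_jGen hA).trans h1, hA.2.1, fun B hB hBa => hA.2.2 B (hB.trans h2) hBa⟩
  rw [jGen, jGen, h]

theorem img_jGen {P D : Subgroup Ω} {φ : P →* Ω} (hi : Function.Injective φ) (hD : D ≤ P) :
    img φ (jGen 0 D) = jGen 0 (img φ D) := by
  have h1 : jGen 0 D = (jGen 0 (D.subgroupOf P)).map P.subtype := by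
    rw [← jGen_map P.subtype_injective, Subgroup.map_subgroupOf_eq_of_le hD]
  rw [img, img, jGen_map hi, h1, Subgroup.subgroupOf,
    Subgroup.comap_map_eq_self_of_injective P.subtype_injective]

theorem normalizerIn_le_jGen (D : Subgroup Ω) : normalizerIn S D ≤ Subgroup.normalizer (jGen 0 D : Set Ω) :=
  fun g hg => by
    refine conjSub_eq_iff_mem_normalizer.1 ?_
    show (jGen 0 D).map _ = _
    rw [← jGen_map (f := (MulAut.conj g).toMonoidHom) (MulAut.conj g).injective]
    exact congrArg _ (conjSub_eq_iff_mem_normalizer.2 hg.2)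

/-- A transitive cyclic subgroup of the automizer. -/
def Transit (p : ℕ) (F : FusionSystem S) (T : Subgroup Ω) : Prop :=
  ∃ X : Subgroup (MulAut ↥T), X ≤ F.autGroup T ∧ X ≠ ⊥ ∧ IsCyclic ↥X ∧ (Nat.card ↥X).Coprime p ∧
    ∀ a b : ↥T, a ∈ Subgroup.closure {y : ↥T | ∃ ψ ∈ X, ∃ t : ↥T, y = ψ t * t⁻¹} →
      b ∈ Subgroup.closure {y : ↥T | ∃ ψ ∈ X, ∃ t : ↥T, y = ψ t * t⁻¹} → a ≠ 1 → b ≠ 1 →
      ∃ ψ ∈ X, ψ a = b

variable {p : ℕ} [Fact p.Prime]

/-- The statement for one system. -/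
def Claim (p : ℕ) (Ω : Type u) [Group Ω] (S : Subgroup Ω) (F : FusionSystem S) : Prop :=
  IsPGroup p S → F.IsSaturated p → ∀ T : Subgroup Ω, T ≤ centralizerIn S S →
    (∀ P, F.normalizerHom (jGen 0 S) P ⊆ F.normalizerHom T P) → ¬ Transit p F T →
    ∀ P, F.Hom P ⊆ F.normalizerHom T P

theorem le_normalizerHom (hp : p ≠ 2) [Finite S] (F : FusionSystem S) : Claim p Ω S F := by
  apply system_induction (C := fun Ω _ S F => Claim p Ω S F)
  clear! Ω
  intro Ω _ S _ F _ ihs hS hF T hT hN hno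
  have hTS : T ≤ S := hT.trans (centralizerIn_le S)
  have hTn : normalizerIn S T = S := le_antisymm (normalizerIn_le T) (le_inf le_rfl fun s hs =>
    mem_normalizer_of_forall_commute fun y hy => ((hT hy).2 s hs).symm)
  have hJS : jGen 0 S ≤ S := jGen_le 0 S
  have hTJ : T ≤ jGen 0 S := fun t ht => by
    obtain ⟨A, hA⟩ := maxAdm_nonempty' (D := S)
    exact le_jGen hA (mem_of_commute' hA (hTS ht) fun a ha => ((hT ht).2 a (hA.1 ha)).symm)
  have hSJ : S ≤ normalizerIn S (jGen 0 S) := le_inf le_rfl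
    ((le_inf le_rfl Subgroup.le_normalizer).trans (normalizerIn_le_jGen (S := S) S))
  set Etgt := normSys F T hTn.symm hTS with hEtgt
  suffices h : F ≤ Etgt from fun P φ hφ => h P hφ
  have hXn : F.IsNormal F.core := isNormal_core
  have hXS := hXn.1
  have hXnS : S ≤ Subgroup.normalizer (F.core : Set Ω) :=
    le_normalizer_of_stronglyClosed (stronglyClosed_of_isNormal hXn)
  by_cases hc : centralizerIn S F.core ≤ F.core
  · -- constrained
    obtain ⟨G, _, ι, hGfin, hr, ⟨P₀, hP₀⟩, hC⟩ := exists_model_of_core hS hF hc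
    set Z := (T.subgroupOf S).map ι with hZdef
    have hSrange : (⊤ : Subgroup ↥S).map S.subtype = S := by
      rw [← MonoidHom.range_eq_map, Subgroup.range_subtype]
    have hJG : jGen 0 (P₀ : Subgroup G) = ((jGen 0 S).subgroupOf S).map ι := by
      rw [hP₀, MonoidHom.range_eq_map, jGen_map hr.1]
      congr 1
      have h1 : jGen 0 S = (jGen 0 (⊤ : Subgroup ↥S)).map S.subtype :=
        (congrArg (jGen 0) hSrange.symm).trans (jGen_map S.subtype_injective _)
      rw [h1, Subgroup.subgroupOf, Subgroup.comap_map_eq_self_of_injective S.subtype_injective]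
    have hJZ : Subgroup.normalizer (jGen 0 (P₀ : Subgroup G) : Set G) ≤ Subgroup.normalizer (Z : Set G) := by
      intro g hg
      rw [hJG] at hg
      obtain ⟨φ, hφ, hφS, hφe⟩ := exists_map_of_conj hr hJS (g := g) fun x => by
        obtain ⟨z, _, hze⟩ := conj_mem_of_mem_normalizer hg
          (Subgroup.mem_map_of_mem ι (show (⟨x, hJS x.2⟩ : ↥S) ∈ (jGen 0 S).subgroupOf S from x.2))
        exact ⟨z, hze⟩
      have hφJ : ∀ x, φ x ∈ jGen 0 S := fun x => by
        obtain ⟨z, hz, hze⟩ := conj_mem_of_mem_normalizer hg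
          (Subgroup.mem_map_of_mem ι (show (⟨x, hJS x.2⟩ : ↥S) ∈ (jGen 0 S).subgroupOf S from x.2))
        have h1 : (⟨φ x, hφS x⟩ : ↥S) = z := hr.1 ((hφe x).trans hze.symm)
        have h2 : φ x = z := congrArg Subtype.val h1
        exact h2 ▸ hz
      have := finite_of_le hJS
      have hφN : φ ∈ F.normalizerHom (jGen 0 S) (jGen 0 S) := by
        refine mem_normalizerHom_of_img hφ le_rfl le_rfl ?_ (fun _ => rfl) (hJS.trans hSJ) fun x => hSJ (hφS x)
        refine Subgroup.eq_of_le_of_card_ge ?_ (card_img (F.injective_of_mem hφ) le_rfl).ge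
        intro y hy
        obtain ⟨x, -, rfl⟩ := mem_img.1 hy
        exact hφJ x
      obtain ⟨-, -, -, ψ, -, hψe, hψT⟩ := hN _ hφN
      have hfinZ : Finite ↥Z := inferInstance
      refine mem_normalizer_of_forall ?_
      rintro _ ⟨t, ht, rfl⟩
      have htJ : (t : Ω) ∈ jGen 0 S := hTJ ht
      have h1 : φ ⟨t, htJ⟩ ∈ T := by
        rw [← hψe]
        exact hψT.le (apply_mem_img ψ (x := Subgroup.inclusion le_sup_left ⟨(t : Ω), htJ⟩) ht)
      exact ⟨⟨_, hφS ⟨t, htJ⟩⟩, h1, hφe ⟨t, htJ⟩⟩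
    have hZS : Z ≤ (P₀ : Subgroup G) := hP₀ ▸ Subgroup.map_le_range ι _
    have hZc : ∀ s ∈ (P₀ : Subgroup G), ∀ t ∈ Z, s * t = t * s := by
      rw [hP₀]
      rintro _ ⟨s, rfl⟩ _ ⟨t, ht, rfl⟩
      rw [← map_mul, ← map_mul]
      exact congrArg ι (Subtype.ext ((hT ht).2 s s.2))
    have hmove : ∀ g ∈ Subgroup.normalizer (Z : Set G), ∀ t : ↥S, (t : Ω) ∈ T →
        ∃ u : ↥S, (u : Ω) ∈ T ∧ ι u = g * ι t * g⁻¹ := fun g hg t ht => by
      obtain ⟨u, hu, hue⟩ := conj_mem_of_mem_normalizer hg (Subgroup.mem_map_of_mem ι ht)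
      exact ⟨u, hu, hue⟩
    rcases normal_or_good hp P₀ hC hZS hZc hJZ with hnorm | ⟨x, L, hxN, hxo, hL, ⟨t₀, ht₀, hne⟩, htr⟩
    · intro P φ hφ
      have hP := le_S F hφ
      obtain ⟨g, hg⟩ := (hr.2 P hP φ (apply_mem_S F hφ)).1 hφ
      have hM : P ⊔ T ≤ S := sup_le hP hTS
      let C : Subgroup ↥S := (ι.range.comap (MulAut.conj g).toMonoidHom).comap ι
      have hCle : P ⊔ T ≤ C.map S.subtype := by
        refine sup_le (fun y hy => ⟨⟨y, hP hy⟩, ⟨_, hg ⟨y, hy⟩⟩, rfl⟩) fun y hy => ⟨⟨y, hTS hy⟩, ?_, rfl⟩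
        obtain ⟨u, -, hu⟩ := hmove g (hnorm ▸ Subgroup.mem_top g) ⟨y, hTS hy⟩ hy
        exact ⟨u, hu⟩
      obtain ⟨ψ, hψ, hψS, hψe⟩ := exists_map_of_conj hr hM (g := g) fun x => by
        obtain ⟨c, hc', hce⟩ := hCle x.2
        rw [show (⟨(x : Ω), hM x.2⟩ : ↥S) = c from Subtype.ext hce.symm]
        exact hc'
      have := finite_of_le hTS
      refine mem_normalizerHom_of_img hψ le_sup_left le_sup_right ?_
        (fun x => congrArg Subtype.val (hr.1 ((hψe (Subgroup.inclusion le_sup_left x)).trans (hg x).symm) :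
          (⟨ψ (Subgroup.inclusion le_sup_left x), hψS _⟩ : ↥S) = ⟨φ x, apply_mem_S F hφ x⟩))
        (hP.trans hTn.ge) fun x => hTn.ge (apply_mem_S F hφ x)
      refine Subgroup.eq_of_le_of_card_ge ?_ (card_img (F.injective_of_mem hψ) le_sup_right).ge
      intro y hy
      obtain ⟨z, hz, rfl⟩ := mem_img.1 hy
      obtain ⟨u, hu, hue⟩ := hmove g (hnorm ▸ Subgroup.mem_top g) ⟨z, hM z.2⟩ hz
      have h1 : (⟨ψ z, hψS z⟩ : ↥S) = u := hr.1 ((hψe z).trans hue.symm)
      have h2 : ψ z = u := congrArg Subtype.val h1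
      rw [h2]; exact hu
    · -- the torus
      exfalso
      have := finite_of_le hTS
      obtain ⟨φ, hφ, hφS, hφe⟩ := exists_map_of_conj hr hTS (g := x) fun t => by
        obtain ⟨u, -, hu⟩ := hmove x hxN ⟨t, hTS t.2⟩ t.2
        exact ⟨u, hu⟩
      have hrange : φ.range = T := by
        rw [← img_self]
        refine Subgroup.eq_of_le_of_card_ge ?_ (card_img (F.injective_of_mem hφ) le_rfl).ge
        intro y hy
        obtain ⟨z, -, rfl⟩ := mem_img.1 hy
        obtain ⟨u, hu, hue⟩ := hmove x hxN ⟨z, hTS z.2⟩ z.2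
        have h1 : (⟨φ z, hφS z⟩ : ↥S) = u := hr.1 ((hφe z).trans hue.symm)
        have h2 : φ z = u := congrArg Subtype.val h1
        rw [h2]; exact hu
      obtain ⟨α, hα, hαe⟩ := exists_iso_of_range hφ hrange
      let j : ↥T → G := fun t => ι ⟨t, hTS t.2⟩
      have hj : Function.Injective j := fun a b e => Subtype.ext (congrArg (fun s : ↥S => (s : Ω)) (hr.1 e))
      have hstep : ∀ t : ↥T, j (α t) = x * j t * x⁻¹ := fun t => by
        rw [← hφe t]
        exact congrArg ι (Subtype.ext (hαe t))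
      have hpow : ∀ (i : ℕ) (t : ↥T), j (((α : MulAut ↥T) ^ i) t) = x ^ i * j t * (x ^ i)⁻¹ := by
        intro i
        induction i with
        | zero => intro t; simp
        | succ i ih =>
          intro t
          rw [pow_succ', MulAut.mul_apply, hstep, ih, pow_succ']
          group
      refine hno ⟨Subgroup.zpowers (α : MulAut ↥T), Subgroup.zpowers_le.2 ((mem_autGroup_iff F hTS).2 hα),
        fun e => ?_, inferInstance, ?_, ?_⟩
      · obtain ⟨t, ht, rfl⟩ := ht₀
        have h1 : (α : MulAut ↥T) = 1 := Subgroup.mem_bot.1 (e ▸ Subgroup.mem_zpowers _)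
        refine hne ?_
        have h2 : ι t = x * ι t * x⁻¹ := by
          have h3 := hstep ⟨t, ht⟩
          have h4 : α ⟨t, ht⟩ = ⟨t, ht⟩ := congrFun (congrArg DFunLike.coe h1) _
          rwa [h4] at h3
        nth_rewrite 2 [h2]
        rw [inv_mul_cancel_right]
      · rw [Nat.card_zpowers]
        refine Nat.Coprime.coprime_dvd_left (orderOf_dvd_of_pow_eq_one ?_)
          ((Fact.out : p.Prime).coprime_iff_not_dvd.2 hxo).symm
        refine MulEquiv.ext fun t => hj ?_
        rw [hpow, pow_orderOf_eq_one, inv_one, one_mul, mul_one, MulAut.one_apply]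
      · intro a b ha hb ha1 hb1
        have hcl : ∀ c : ↥T, c ∈ Subgroup.closure {y : ↥T | ∃ ψ ∈ Subgroup.zpowers (α : MulAut ↥T),
            ∃ t : ↥T, y = ψ t * t⁻¹} → j c ∈ L := by
          intro c hc'
          refine (Subgroup.closure_le (L.comap (ι.comp (Subgroup.inclusion hTS)))).2 ?_ hc'
          rintro _ ⟨ψ, hψ, t, rfl⟩
          obtain ⟨i, rfl⟩ := mem_powers_iff_mem_zpowers.2 hψ
          have h1 := hL i _ (Subgroup.mem_map_of_mem ι (show (⟨t, hTS t.2⟩ : ↥S) ∈ T.subgroupOf S from t.2))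
          show j _ ∈ L
          rw [show j (((α : MulAut ↥T) ^ i) t * t⁻¹) = j (((α : MulAut ↥T) ^ i) t) * (j t)⁻¹ from by
            show ι _ = ι _ * (ι _)⁻¹
            rw [← map_inv, ← map_mul]
            rfl, hpow]
          exact h1
        have hj1 : j 1 = 1 := map_one ι
        obtain ⟨i, hi⟩ := htr _ (hcl a ha) _ (hcl b hb) (fun e => ha1 (hj (e.trans hj1.symm)))
          (fun e => hb1 (hj (e.trans hj1.symm)))
        exact ⟨(α : MulAut ↥T) ^ i, Subgroup.pow_mem _ (Subgroup.mem_zpowers _) i, hj ((hpow i a).trans hi)⟩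
  -- not constrained
  let W : Subgroup Ω → Subgroup Ω := fun D => jGen 0 D ⊔ F.core
  have hWle : ∀ D ≤ S, F.core ≤ D → W D ≤ D := fun D _ hXD => sup_le (jGen_le 0 D) hXD
  have hWn : ∀ D ≤ S, F.core ≤ D → normalizerIn S D ≤ normalizerIn S (W D) := fun D _ _ g hg =>
    ⟨hg.1, Subgroup.normalizer_inf_normalizer_le_normalizer_sup _ _
      ⟨normalizerIn_le_jGen D hg, hXnS hg.1⟩⟩
  refine le_of_ascend_core hS hF W hc hWle hWn (fun D hD hXD hY => ⟨le_sup_right, fun hle => hY ?_⟩)
    Etgt (fun P φ hφ => ?_) (fun α hα => ?_) fun U hXU hUX hUn hUIH P φ hφ => ?_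
  · have := finite_of_le hD
    obtain ⟨A, hA⟩ := maxAdm_nonempty' (D := D)
    intro y hy
    have hAX : A ≤ F.core := (le_jGen hA).trans (le_sup_left.trans hle)
    exact hAX (mem_of_commute' hA hy.1 fun a ha => (hy.2 a (hAX ha)).symm)
  · -- maps normalizing `J(S) X` normalize `J(S)`
    obtain ⟨hφF, hP, hφN, ψ, hψ, hψe, hψW⟩ := hφ
    have hWS : W S ≤ S := sup_le hJS hXS
    refine hN P (mem_normalizerHom_of_img hψ le_sup_left
      ((le_sup_left : jGen 0 S ≤ W S).trans le_sup_right) ?_ hψe ((hP.trans (normalizerIn_le _)).trans hSJ)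
      fun x => hSJ (normalizerIn_le _ (hφN x)))
    have he : jGen 0 (W S) = jGen 0 S := jGen_eq' (le_sup_left : jGen 0 S ≤ W S) hWS
    rw [← he, img_jGen (F.injective_of_mem hψ) le_sup_right, show img ψ (W S) = W S from hψW]
  · have hαm := (mem_autGroup_iff F le_rfl).1 hα
    refine mem_autGroup_of_mem Etgt (φ := S.subtype.comp α.toMonoidHom) (hN S ?_) fun _ => rfl
    refine mem_normalizerHom_of_img hαm le_rfl hJS ?_ (fun _ => rfl) hSJ fun x => hSJ (α x).2
    rw [img_jGen (F.injective_of_mem hαm) le_rfl, img_self, range_subtype_comp]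
  · -- a smaller system
    set D := normalizerIn S U with hDdef
    have hDS : D ≤ S := normalizerIn_le U
    have hUD : U ≤ D := le_normalizerIn hUn.1
    have := finite_of_le hDS
    have hnot : ¬ F.IsNormal U := fun h => hUX (le_sSup h)
    have hTD : T ≤ D := fun t ht => ⟨hTS ht, mem_normalizer_of_forall_commute fun y hy =>
      (hT ht).2 y (hUn.1 hy)⟩
    set N := normSys F U rfl hUn.1 with hNdef
    have h := ihs D N hDS (normSys_isSubsystemOf hUn.1) (normSys_proper hUn.1 hnot) (hS.to_le hDS)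
      (isSaturated_normSys hS hF hUn) T
      (fun t ht => ⟨hTD ht, fun y hy => (hT ht).2 y (hDS hy)⟩) ?_
      (fun ⟨X, hX, h1⟩ => hno ⟨X, fun a ha => ?_, h1⟩) P hφ
    · exact normalizerHom_mono hDS (normSys_isSubsystemOf hUn.1) T P h
    · intro P φ hφ
      set J := jGen 0 D with hJdef
      have hJD : J ≤ D := jGen_le 0 D
      obtain ⟨hφU, hP, hφJ, ψ₀, ⟨-, hM₀, hψ₀N, χ, hχ, hχe, hχU⟩, hψ₀e, hψ₀J⟩ := hφ
      let M := (P ⊔ J) ⊔ U
      have hMD : M ≤ D := sup_le hM₀ hUD
      have hχD : ∀ x : ↥M, χ x ∈ D := by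
        intro x
        have hle : (P ⊔ J) ⊔ U ≤ (D.comap χ).map M.subtype := by
          refine sup_le (fun y hy => ⟨⟨y, le_sup_left (b := U) hy⟩, ?_, rfl⟩)
            fun y hy => ⟨⟨y, le_sup_right (a := P ⊔ J) hy⟩, ?_, rfl⟩
          · show χ (Subgroup.inclusion le_sup_left ⟨y, hy⟩) ∈ D
            rw [hχe]; exact hψ₀N ⟨y, hy⟩
          · exact hUD (hχU.le (apply_mem_img χ (x := ⟨y, le_sup_right (a := P ⊔ J) hy⟩) hy))
        obtain ⟨z, hz, hze⟩ := hle x.2
        rwa [← (Subtype.ext hze : z = x)]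
      have hXM : F.core ≤ M := hXU.trans le_sup_right
      have hJM : J ≤ M := le_sup_right.trans le_sup_left
      have hχJ : img χ J = J := by
        rw [← img_res χ (le_sup_left : P ⊔ J ≤ M) le_sup_right,
          show χ.comp (Subgroup.inclusion le_sup_left) = ψ₀ from MonoidHom.ext hχe]
        exact hψ₀J
      have hχW : img χ (W D) = W D := by
        have := finite_of_le ((hWle D hDS (hXU.trans hUD)).trans hDS)
        have : Finite ↥(img χ (W D)) := finite_of_le (S := S) ((img_le_range _ _).trans (by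
          rintro _ ⟨x, rfl⟩; exact apply_mem_S F hχ x))
        refine (Subgroup.eq_of_le_of_card_ge ?_ (card_img (F.injective_of_mem hχ) (sup_le hJM hXM)).le).symm
        refine sup_le (hχJ.ge.trans ?_) ((img_core hχ hXM).ge.trans ?_) <;> intro y hy <;>
          obtain ⟨z, hz, rfl⟩ := mem_img.1 hy
        · exact apply_mem_img χ (le_sup_left (b := F.core) hz)
        · exact apply_mem_img χ (le_sup_right (a := jGen 0 D) hz)
      have hDW : D ≤ normalizerIn S (W D) :=
        (le_normalizerIn hDS).trans (hWn D hDS (hXU.trans hUD))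
      obtain ⟨-, -, -, ω, hω, hωe, hωT⟩ := hUIH M χ
        (mem_normalizerHom_of_img hχ le_rfl le_sup_right hχU (fun _ => rfl) hMD hχD)
        (mem_normalizerHom_of_img hχ le_rfl (sup_le hJM hXM) hχW (fun _ => rfl)
          (hMD.trans hDW) fun x => hDW (hχD x))
      have hωD : ∀ x, ω x ∈ D := by
        intro x
        have hle : M ⊔ T ≤ (D.comap ω).map (M ⊔ T).subtype := by
          refine sup_le (fun y hy => ⟨⟨y, le_sup_left (b := T) hy⟩, ?_, rfl⟩)
            fun y hy => ⟨⟨y, le_sup_right (a := M) hy⟩, ?_, rfl⟩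
          · show ω (Subgroup.inclusion le_sup_left ⟨y, hy⟩) ∈ D
            rw [hωe]; exact hχD ⟨y, hy⟩
          · exact hTD (hωT.le (apply_mem_img ω (x := ⟨y, le_sup_right (a := M) hy⟩) hy))
        obtain ⟨z, hz, hze⟩ := hle x.2
        rwa [← (Subtype.ext hze : z = x)]
      have hωU : img ω U = U := by
        rw [← img_res ω (le_sup_left : M ≤ M ⊔ T) le_sup_right,
          show ω.comp (Subgroup.inclusion le_sup_left) = χ from MonoidHom.ext hωe]
        exact hχU
      have hωN : ω ∈ N.Hom (M ⊔ T) :=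
        mem_normalizerHom_of_img hω le_rfl (le_sup_right.trans le_sup_left) hωU (fun _ => rfl)
          (sup_le hMD hTD) hωD
      have hDT : D ≤ normalizerIn D T := le_inf le_rfl fun s hs =>
        mem_normalizer_of_forall_commute fun y hy => ((hT hy).2 s (hDS hs)).symm
      refine mem_normalizerHom_of_img hωN ((le_sup_left.trans le_sup_left).trans le_sup_left) le_sup_right
        hωT (fun x => ?_) ((hP.trans (normalizerIn_le _)).trans hDT) fun x => hDT (normalizerIn_le _ (hφJ x))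
      exact (hωe (Subgroup.inclusion (le_sup_left.trans le_sup_left) x)).trans
        ((hχe (Subgroup.inclusion le_sup_left x)).trans (hψ₀e x))
    · exact mem_autGroup_of_mem F (normSys_isSubsystemOf hUn.1 T ((mem_autGroup_iff N hTD).1 (hX ha))) fun _ => rfl

end CfsgLib.Fusion.WeakZJ
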