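import Cfsg.Agent.Lib.LocalEven.PMinFF.Blocks
import Cfsg.Agent.Lib.LocalEven.PMinFF.Moved
import Mathlib.RingTheory.IntegralDomain

/-!
The central involution and the transitive torus of the blocks, `p` odd.
-/

set_option autoImplicit false
set_option linter.unusedSectionVars false

namespace CfsgLib.Fusion.WeakZJ

open CfsgLib.LocalEven.PMinFF
open CfsgLib.LocalEven.MinOffender (fx fx_anti mem_fx_conj smul_mem_fx_conj)
open CfsgLib.Fusion (conjSub conj_mem_conjSub conjSub_eq_iff_mem_normalizer)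

section SLTwo

variable {F : Type*} [Field F]

/-- An element fixing a nonzero vector has `p`-th power one. -/
theorem pow_eq_one_of_fix {p : ℕ} [CharP F p] (e : Matrix.SpecialLinearGroup (Fin 2) F) {a : Fin 2 → F}
    (ha : a ≠ 0) (he : (e : Matrix (Fin 2) (Fin 2) F).mulVec a = a) : e ^ p = 1 := by
  have hd : (e : Matrix (Fin 2) (Fin 2) F) 0 0 * (e : Matrix (Fin 2) (Fin 2) F) 1 1 - (e : Matrix (Fin 2) (Fin 2) F) 0 1 * (e : Matrix (Fin 2) (Fin 2) F) 1 0 = 1 := (Matrix.det_fin_two (e : Matrix (Fin 2) (Fin 2) F)).symm.trans e.2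
  have h0 : (e : Matrix (Fin 2) (Fin 2) F) 0 0 * a 0 + (e : Matrix (Fin 2) (Fin 2) F) 0 1 * a 1 = a 0 := by
    have := congrFun he 0; simpa [Matrix.mulVec, dotProduct, Fin.sum_univ_two] using this
  have h1 : (e : Matrix (Fin 2) (Fin 2) F) 1 0 * a 0 + (e : Matrix (Fin 2) (Fin 2) F) 1 1 * a 1 = a 1 := by
    have := congrFun he 1; simpa [Matrix.mulVec, dotProduct, Fin.sum_univ_two] using this
  have htr : (e : Matrix (Fin 2) (Fin 2) F) 0 0 + (e : Matrix (Fin 2) (Fin 2) F) 1 1 = 2 := by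
    by_cases h : a 0 = 0
    · have h' : a 1 ≠ 0 := fun h' => ha (funext fun i => by fin_cases i <;> assumption)
      refine mul_left_cancel₀ h' ?_
      linear_combination (a 1) * hd + ((e : Matrix (Fin 2) (Fin 2) F) 1 0) * h0 + (1 - (e : Matrix (Fin 2) (Fin 2) F) 0 0) * h1
    · refine mul_left_cancel₀ h ?_
      linear_combination (a 0) * hd + (1 - (e : Matrix (Fin 2) (Fin 2) F) 1 1) * h0 + ((e : Matrix (Fin 2) (Fin 2) F) 0 1) * h1
  have hN : ((e : Matrix (Fin 2) (Fin 2) F) - 1) * ((e : Matrix (Fin 2) (Fin 2) F) - 1) = 0 := by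
    ext i j
    fin_cases i <;> fin_cases j <;>
      simp [Matrix.mul_apply, Fin.sum_univ_two]
    · linear_combination ((e : Matrix (Fin 2) (Fin 2) F) 0 0) * htr - hd
    · linear_combination ((e : Matrix (Fin 2) (Fin 2) F) 0 1) * htr
    · linear_combination ((e : Matrix (Fin 2) (Fin 2) F) 1 0) * htr
    · linear_combination ((e : Matrix (Fin 2) (Fin 2) F) 1 1) * htr - hd
  have hp : ∀ k : ℕ, ((e : Matrix (Fin 2) (Fin 2) F)) ^ k = 1 + (k : Matrix (Fin 2) (Fin 2) F) * ((e : Matrix (Fin 2) (Fin 2) F) - 1) := by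
    intro k
    induction k with
    | zero => simp
    | succ k ih =>
      rw [pow_succ, ih, Nat.cast_succ]
      have : ((e : Matrix (Fin 2) (Fin 2) F)) = 1 + ((e : Matrix (Fin 2) (Fin 2) F) - 1) := by abel
      generalize hN' : (e : Matrix (Fin 2) (Fin 2) F) - 1 = N at hN this ⊢
      rw [this]
      simp only [mul_add, mul_one, add_mul, one_mul, mul_assoc, hN, mul_zero, add_zero]
      abel
  refine Subtype.ext ((Matrix.SpecialLinearGroup.coe_pow e p).trans ((hp p).trans ?_))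
  rw [CharP.cast_eq_zero (Matrix (Fin 2) (Fin 2) F) p, zero_mul, add_zero]
  rfl

/-- Transitivity on the nonzero vectors. -/
theorem exists_map_vec {a b : Fin 2 → F} (ha : a ≠ 0) (hb : b ≠ 0) :
    ∃ e : Matrix.SpecialLinearGroup (Fin 2) F, (e : Matrix (Fin 2) (Fin 2) F).mulVec a = b := by
  have key : ∀ a : Fin 2 → F, a ≠ 0 → ∃ m : Matrix.SpecialLinearGroup (Fin 2) F, (m : Matrix (Fin 2) (Fin 2) F).mulVec ![1, 0] = a := by
    intro a ha
    by_cases h : a 0 = 0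
    · have h' : a 1 ≠ 0 := fun h' => ha (funext fun i => by fin_cases i <;> assumption)
      refine ⟨⟨!![0, -(a 1)⁻¹; a 1, 0], by rw [Matrix.det_fin_two]; simp [h']⟩, ?_⟩
      ext i; fin_cases i <;> simp [Matrix.mulVec, dotProduct, Fin.sum_univ_two, h]
    · refine ⟨⟨!![a 0, 0; a 1, (a 0)⁻¹], by rw [Matrix.det_fin_two]; simp [h]⟩, ?_⟩
      ext i; fin_cases i <;> simp [Matrix.mulVec, dotProduct, Fin.sum_univ_two]
  obtain ⟨m, hm⟩ := key a ha
  obtain ⟨n, hn⟩ := key b hb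
  refine ⟨n * m⁻¹, ?_⟩
  have e0 : n * m⁻¹ * m = n := inv_mul_cancel_right n m
  have e1 : (↑(n * m⁻¹) : Matrix (Fin 2) (Fin 2) F) * (↑m : Matrix (Fin 2) (Fin 2) F) = (↑n : Matrix (Fin 2) (Fin 2) F) :=
    (Matrix.SpecialLinearGroup.coe_mul (n * m⁻¹) m).symm.trans (congrArg Subtype.val e0)
  rw [← hm, ← hn, Matrix.mulVec_mulVec]
  exact congrArg (fun N => Matrix.mulVec N ![1, 0]) e1

/-- Two vectors fixed by a nontrivial element are dependent. -/
theorem exists_smul_of_fix (u : Matrix.SpecialLinearGroup (Fin 2) F) (hu : u ≠ 1) {a b : Fin 2 → F} (ha : a ≠ 0)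
    (hua : (u : Matrix (Fin 2) (Fin 2) F).mulVec a = a) (hub : (u : Matrix (Fin 2) (Fin 2) F).mulVec b = b) : ∃ c : F, b = c • a := by
  have hd : a 0 * b 1 - a 1 * b 0 = 0 := by
    by_contra hd
    refine hu (Subtype.ext (?_ : (u : Matrix (Fin 2) (Fin 2) F) = (1 : Matrix (Fin 2) (Fin 2) F)))
    have A0 : (u : Matrix (Fin 2) (Fin 2) F) 0 0 * a 0 + (u : Matrix (Fin 2) (Fin 2) F) 0 1 * a 1 = a 0 := by
      have := congrFun hua 0; simpa [Matrix.mulVec, dotProduct, Fin.sum_univ_two] using this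
    have A1 : (u : Matrix (Fin 2) (Fin 2) F) 1 0 * a 0 + (u : Matrix (Fin 2) (Fin 2) F) 1 1 * a 1 = a 1 := by
      have := congrFun hua 1; simpa [Matrix.mulVec, dotProduct, Fin.sum_univ_two] using this
    have B0 : (u : Matrix (Fin 2) (Fin 2) F) 0 0 * b 0 + (u : Matrix (Fin 2) (Fin 2) F) 0 1 * b 1 = b 0 := by
      have := congrFun hub 0; simpa [Matrix.mulVec, dotProduct, Fin.sum_univ_two] using this
    have B1 : (u : Matrix (Fin 2) (Fin 2) F) 1 0 * b 0 + (u : Matrix (Fin 2) (Fin 2) F) 1 1 * b 1 = b 1 := by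
      have := congrFun hub 1; simpa [Matrix.mulVec, dotProduct, Fin.sum_univ_two] using this
    ext i j
    fin_cases i <;> fin_cases j <;> refine mul_left_cancel₀ hd ?_ <;> simp [-mul_eq_zero]
    · linear_combination b 1 * A0 - a 1 * B0
    · linear_combination a 0 * B0 - b 0 * A0
    · linear_combination b 1 * A1 - a 1 * B1
    · linear_combination a 0 * B1 - b 0 * A1
  by_cases h : a 0 = 0
  · have h' : a 1 ≠ 0 := fun h' => ha (funext fun i => by fin_cases i <;> assumption)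
    refine ⟨b 1 / a 1, funext fun i => ?_⟩
    have : b 0 = 0 := by
      rw [h, zero_mul, zero_sub, neg_eq_zero, mul_eq_zero] at hd
      exact hd.resolve_left h'
    fin_cases i <;> simp [h, h', this]
  · refine ⟨b 0 / a 0, funext fun i => ?_⟩
    fin_cases i
    · simp [h]
    · simp only [Fin.mk_one, Pi.smul_apply, smul_eq_mul, Fin.isValue]
      field_simp
      linear_combination hd

end SLTwo

variable {Γ : Type*} [Group Γ] [Finite Γ] {M : Type*} [AddCommGroup M] [DistribMulAction Γ M] [Finite M]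
variable {p : ℕ} [Fact p.Prime] {T : Sylow p Γ} {Mx : Subgroup Γ}

/-- What the torus argument gives. -/
structure TorusData (p : ℕ) (T : Sylow p Γ) (Mx : Subgroup Γ) (M : Type*) [AddCommGroup M]
    [DistribMulAction Γ M] (z g : Γ) (U : AddSubgroup M) : Prop where
  comm : ∀ x, x * z = z * x
  zsq : z * z = 1
  zne : z ≠ 1
  gnorm : g ∈ Subgroup.normalizer ((T : Subgroup Γ) : Set Γ)
  gord : ¬ p ∣ orderOf g
  neg : ∀ u ∈ U, z • u = -u
  inv : ∀ x : Γ, ∀ u ∈ U, x • u ∈ U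
  split : ∀ v : M, (∀ t ∈ (T : Subgroup Γ), t • v = v) → ∃ u ∈ U, (∀ t ∈ (T : Subgroup Γ), t • u = u) ∧
    z • (v - u) = v - u ∧ g • (v - u) = v - u
  trans : ∀ l ∈ U, ∀ l' ∈ U, l ≠ 0 → l' ≠ 0 → (∀ t ∈ (T : Subgroup Γ), t • l = l) →
    (∀ t ∈ (T : Subgroup Γ), t • l' = l') → ∃ i : ℕ, g ^ i • l = l'

/-- The torus. -/
theorem exists_torus (h : Setting p T Mx M) (hp : p ≠ 2) (hex : ∃ A : Subgroup Γ, Member p M A) :
    ∃ (z g : Γ) (U : AddSubgroup M), TorusData p T Mx M z g U := by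
  classical
  obtain ⟨r, E, hr, hcom, -, hgen, hperm, hsup₀, horth, hblk, hmem, hEle⟩ := h.structure_thm hex
  set H : Subgroup Γ := ⨆ i, E i with hH
  have hHle : H ≤ ⨆ C : {C : Subgroup Γ // InT p T M C}, blk p T M C.1 := iSup_le hEle
  have hconjH : ∀ t ∈ (T : Subgroup Γ), conjSub t H ≤ H := fun t ht => by
    refine (CfsgLib.Fusion.conjSub_mono t hHle).trans ?_
    rw [conjSub_iSup]
    exact iSup_le fun C => by rw [← blk_conj h ht]; exact hmem _ (InT.conj h C.2 ht)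
  have hTH : (T : Subgroup Γ) ≤ Subgroup.normalizer (H : Set Γ) := fun t ht =>
    conjSub_eq_iff_mem_normalizer.1 (le_antisymm (hconjH t ht) (fun y hy => by
      have := conj_mem_conjSub (g := t) (hconjH t⁻¹ (inv_mem ht) (conj_mem_conjSub (g := t⁻¹) hy))
      simpa [mul_assoc] using this))
  have hHN : Subgroup.normalizer (H : Set Γ) = ⊤ :=
    top_le_iff.1 (hgen ▸ sup_le Subgroup.le_normalizer hTH)
  haveI hHnorm : H.Normal := Subgroup.normalizer_eq_top_iff.1 hHN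
  have hEH : ∀ i, E i ≤ H := fun i => le_iSup E i
  have hEN : ∀ i, H ≤ Subgroup.normalizer (E i : Set Γ) := fun i => iSup_le fun j g hg => by
    rcases eq_or_ne j i with rfl | hne
    · exact Subgroup.le_normalizer hg
    · refine CfsgLib.Fusion.mem_normalizer_of_forall fun e he => ?_
      rw [hcom j i hne g hg e he, mul_inv_cancel_right]; exact he
  -- the moved part
  set U₀ : AddSubgroup M := ⨆ i, mv M (E i) with hU₀
  have hmv : mv M H ≤ U₀ := by
    refine mv_le fun g hg => ?_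
    induction hg using Subgroup.iSup_induction' with
    | hp i g hg => exact fun m => AddSubgroup.mem_iSup_of_mem i (sub_mem_mv hg m)
    | h1 => intro m; rw [one_smul, sub_self]; exact zero_mem _
    | hmul a b _ _ ha hb =>
      intro m
      have := add_mem (ha (b • m)) (hb m)
      rwa [sub_add_sub_cancel, ← mul_smul] at this
  have hmv' : U₀ ≤ mv M H := iSup_le fun i => mv_le fun g hg m => sub_mem_mv (hEH i hg) m
  have hagree : ∀ g ∈ H, ∀ g' ∈ H, (∀ i, ∀ w ∈ mv M (E i), g • w = g' • w) → g = g' := by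
    intro g hg g' hg' he
    refine (inv_mul_eq_one.1 (h.faithful _ fun m => ?_)).symm
    refine fx_mv (U := U₀) (H := H) (by rw [sup_comm]; exact hsup₀) (H.mul_mem (H.inv_mem hg') hg) ?_ m
    intro u hu
    rw [mul_smul, inv_smul_eq_iff]
    induction hu using AddSubgroup.iSup_induction' with
    | hp i w hw => exact he i w hw
    | h1 => rw [smul_zero, smul_zero]
    | hadd a b _ _ ha hb => rw [smul_add, smul_add, ha, hb]
  have hcomp : ∀ g ∈ H, ∀ i, ∃ e ∈ E i, ∀ w ∈ mv M (E i), g • w = e • w := by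
    intro g hg
    induction hg using Subgroup.iSup_induction' with
    | hp j g hg =>
      intro i
      rcases eq_or_ne i j with rfl | hne
      · exact ⟨g, hg, fun w _ => rfl⟩
      · exact ⟨1, one_mem _, fun w hw => by rw [one_smul]; exact horth i j hne hw g hg⟩
    | h1 => exact fun i => ⟨1, one_mem _, fun w _ => rfl⟩
    | hmul a b _ _ ha hb =>
      intro i
      obtain ⟨e, he, h1⟩ := ha i
      obtain ⟨f, hf, h2⟩ := hb i
      exact ⟨e * f, mul_mem he hf, fun w hw => by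
        rw [mul_smul, h2 w hw, h1 _ (smul_mem_mv (Subgroup.le_normalizer hf) hw), mul_smul]⟩
  have hglue : ∀ f : ∀ i, ↥(E i), ∃ g ∈ H, ∀ i, ∀ w ∈ mv M (E i), g • w = (f i : Γ) • w := by
    intro f
    suffices hs : ∀ s : Finset (Fin r), ∃ g ∈ H, ∀ i, ∀ w ∈ mv M (E i),
        g • w = if i ∈ s then (f i : Γ) • w else w by
      obtain ⟨g, hg, he⟩ := hs Finset.univ
      exact ⟨g, hg, fun i w hw => by simpa using he i w hw⟩
    intro s
    induction s using Finset.induction_on with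
    | empty => exact ⟨1, one_mem _, fun i w _ => by simp⟩
    | insert j s hj ih =>
      obtain ⟨g, hg, he⟩ := ih
      refine ⟨(f j : Γ) * g, mul_mem (hEH j (f j).2) hg, fun i w hw => ?_⟩
      rw [mul_smul, he i w hw]
      rcases eq_or_ne i j with rfl | hne
      · simp [hj]
      · rcases em (i ∈ s) with hi | hi
        · simp only [hi, if_true, Finset.mem_insert, or_true]
          exact horth i j hne (smul_mem_mv (Subgroup.le_normalizer (f i).2) hw) _ (f j).2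
        · simp only [hi, if_false, Finset.mem_insert, hne, or_self]
          exact horth i j hne hw _ (f j).2
  -- the central involution
  have hneg : ∀ i, ∃ e : ↥(E i), ∀ w ∈ mv M (E i), (e : Γ) • w = -w := by
    intro i
    obtain ⟨-, n, -, ⟨F, _, _, hF, ρ, ψ, hρ, hψ, hker, hact⟩ | ⟨h2, -⟩⟩ := hblk i
    swap; · exact absurd h2 hp
    obtain ⟨e, he⟩ := hρ.2 (-1)
    have hz : ∀ m : M, (e : Γ) • m + m ∈ fx M (E i) := fun m => (hker _).1 (by
      rw [map_add, hact, he, Matrix.SpecialLinearGroup.coe_neg, Matrix.SpecialLinearGroup.coe_one,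
        Matrix.neg_mulVec, Matrix.one_mulVec, neg_add_cancel])
    have hcen : ∀ g : ↥(E i), e * g = g * e := fun g => hρ.1 (by
      rw [map_mul, map_mul, he]; exact Subtype.ext (by simp))
    refine ⟨e, fun w hw => eq_neg_of_add_eq_zero_left ?_⟩
    induction hw using AddSubgroup.closure_induction with
    | mem w hw =>
      obtain ⟨g, hg, m, rfl⟩ := hw
      have hc : (e : Γ) * g = g * (e : Γ) := congrArg Subtype.val (hcen ⟨g, hg⟩)
      have h1 : g • ((e : Γ) • m + m) = (e : Γ) • m + m := hz m g hg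
      rw [smul_add, ← mul_smul, ← hc, mul_smul] at h1
      rw [smul_sub, ← sub_eq_zero.2 h1]
      abel
    | zero => rw [smul_zero, add_zero]
    | add a b _ _ ha hb => rw [smul_add, add_add_add_comm, ha, hb, add_zero]
    | neg a _ ha => rw [smul_neg, ← neg_add, ha, neg_zero]
  choose zc hzc using hneg
  obtain ⟨z, hzH, hz⟩ := hglue zc
  have hzneg : ∀ u ∈ U₀, z • u = -u := by
    intro u hu
    induction hu using AddSubgroup.iSup_induction' with
    | hp i w hw => rw [hz i w hw, hzc i w hw]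
    | h1 => rw [smul_zero, neg_zero]
    | hadd a b _ _ ha hb => rw [smul_add, ha, hb, neg_add]
  have h2 : ∀ u : M, u = -u → u = 0 := fun u hu => by
    have h2u : 2 • u = 0 := by rw [two_nsmul]; nth_rewrite 1 [hu]; exact neg_add_cancel u
    have h1 := Nat.dvd_gcd (addOrderOf_dvd_of_nsmul_eq_zero h2u) (addOrderOf_dvd_of_nsmul_eq_zero (h.exp u))
    rw [(Nat.coprime_primes Nat.prime_two Fact.out).2 (Ne.symm hp)] at h1
    exact AddMonoid.addOrderOf_eq_one_iff.1 (Nat.dvd_one.1 h1)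
  have hdisj : ∀ u ∈ U₀, u ∈ fx M H → u = 0 := fun u hu hf => h2 u (by rw [← hzneg u hu, hf z hzH])
  have hinv : ∀ x : Γ, ∀ u ∈ U₀, x • u ∈ U₀ := fun x u hu =>
    hmv (smul_mem_mv (hHN ▸ Subgroup.mem_top x) (hmv' hu))
  have hfxinv : ∀ x : Γ, ∀ u ∈ fx M H, x • u ∈ fx M H := fun x u hu =>
    smul_mem_fx (hHN ▸ Subgroup.mem_top x) hu
  have hcommH : ∀ g ∈ H, g * z = z * g := by
    intro g hg
    have hc : g * z * g⁻¹ = z := hagree _ (H.mul_mem (H.mul_mem hg hzH) (H.inv_mem hg)) z hzH fun i w hw => by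
      have hw₀ : w ∈ U₀ := AddSubgroup.mem_iSup_of_mem i hw
      rw [mul_smul, mul_smul, hzneg _ (hinv _ _ hw₀), smul_neg, smul_inv_smul, hzneg _ hw₀]
    exact mul_inv_eq_iff_eq_mul.1 hc
  have hcommT : ∀ t ∈ (T : Subgroup Γ), t * z = z * t := by
    intro t ht
    have hc : t * z * t⁻¹ = z := hagree _ (hHnorm.conj_mem z hzH t) z hzH fun i w hw => by
      have hw₀ : w ∈ U₀ := AddSubgroup.mem_iSup_of_mem i hw
      rw [mul_smul, mul_smul, hzneg _ (hinv _ _ hw₀), smul_neg, smul_inv_smul, hzneg _ hw₀]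
    exact mul_inv_eq_iff_eq_mul.1 hc
  have hcommall : ∀ x, x * z = z * x := fun x => by
    have hle : (⊤ : Subgroup Γ) ≤ Subgroup.centralizer {z} := hgen ▸ sup_le
      (fun g hg => Subgroup.mem_centralizer_singleton_iff.2 (hcommH g hg))
      (fun g hg => Subgroup.mem_centralizer_singleton_iff.2 (hcommT g hg))
    exact Subgroup.mem_centralizer_singleton_iff.1 (hle (Subgroup.mem_top x))
  have hzsq : z * z = 1 := hagree _ (H.mul_mem hzH hzH) 1 H.one_mem fun i w hw => by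
    have hw₀ : w ∈ U₀ := AddSubgroup.mem_iSup_of_mem i hw
    rw [mul_smul, hzneg _ hw₀, smul_neg, hzneg _ hw₀, neg_neg, one_smul]
  -- full support
  have hfull : ∀ i, ∀ l ∈ U₀, (∀ t ∈ (T : Subgroup Γ), t • l = l) → l ∈ fx M (E i) → l = 0 := by
    intro i l hl hfix hli
    refine hdisj l hl (mem_fx_iSup fun j => ?_)
    obtain ⟨t, ht, e⟩ := hperm i j
    rw [← e, ← hfix t ht]
    exact smul_mem_fx_conj hli
  have hzne : z ≠ 1 := by
    intro hz1
    obtain ⟨-, n, -, ⟨F, _, _, hF, ρ, ψ, hρ, hψ, hker, hact⟩ | ⟨h2', -⟩⟩ := hblk ⟨0, hr⟩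
    swap; · exact absurd h2' hp
    obtain ⟨m, hm⟩ := hψ ![1, 0]
    obtain ⟨u, hu, f, hf, rfl⟩ := AddSubgroup.mem_sup.1 ((hblk ⟨0, hr⟩).1 ▸ AddSubgroup.mem_top m)
    have hu0 : u = 0 := h2 u (by
      have := hzneg u (AddSubgroup.mem_iSup_of_mem _ hu)
      rwa [hz1, one_smul] at this)
    rw [hu0, zero_add, (hker f).2 hf] at hm
    simpa using congrFun hm 0
  -- the block used for the torus
  set i₀ : Fin r := ⟨0, hr⟩ with hi₀
  have hcompψ : ∀ i (g : Γ), g ∈ H → ∀ e ∈ E i, (∀ w ∈ mv M (E i), g • w = e • w) →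
      ∀ m : M, g • m - e • m ∈ fx M (E i) := by
    intro i g hg e he hge m
    obtain ⟨u, hu, f, hf, rfl⟩ := AddSubgroup.mem_sup.1 ((hblk i).1 ▸ AddSubgroup.mem_top m)
    rw [smul_add, smul_add, hge u hu, hf e he, add_sub_add_left_eq_sub]
    exact sub_mem (smul_mem_fx (hEN i hg) hf) hf
  -- stabilisers of fixed points
  have hstab : ∀ l ∈ U₀, l ≠ 0 → (∀ t ∈ (T : Subgroup Γ), t • l = l) →
      ∀ g ∈ H, g • l = l → g ∈ (T : Subgroup Γ) := by
    intro l hl hl0 hfix g hg hgl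
    let P : Subgroup Γ := H ⊓ MulAction.stabilizer Γ l
    have hP : IsPGroup p ↥P := by
      rintro ⟨x, hx, hxl⟩
      refine ⟨1, Subtype.ext (hagree _ (H.pow_mem hx _) 1 H.one_mem fun i w hw => ?_)⟩
      obtain ⟨-, n, -, ⟨F, _, _, hF, ρ, ψ, hρ, hψ, hker, hact⟩ | ⟨h2', -⟩⟩ := hblk i
      swap; · exact absurd h2' hp
      haveI : CharP F p := charP_of_card_eq_prime_pow hF
      obtain ⟨e, he, hxe⟩ := hcomp x hx i
      have h1 : ψ l ≠ 0 := fun e0 => hl0 (hfull i l hl hfix ((hker l).1 e0))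
      have h3 : (ρ ⟨e, he⟩).1.mulVec (ψ l) = ψ l := by
        have h5 := (hker _).2 (hcompψ i x hx e he hxe l)
        rw [map_sub, show x • l = l from hxl, sub_eq_zero, hact ⟨e, he⟩] at h5
        exact h5.symm
      have h4 : e ^ p = 1 := congrArg Subtype.val
        (hρ.1 (by rw [map_pow, map_one, pow_eq_one_of_fix _ h1 h3]) : (⟨e, he⟩ : ↥(E i)) ^ p = 1)
      have hpow : ∀ k : ℕ, x ^ k • w = e ^ k • w := by
        intro k
        induction k with
        | zero => simp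
        | succ k ih =>
          rw [pow_succ', mul_smul, ih, hxe _ (smul_mem_mv (Subgroup.le_normalizer (pow_mem he k)) hw),
            pow_succ', mul_smul]
      rw [pow_one, hpow p, h4]
    have hTP : (T : Subgroup Γ) ≤ Subgroup.normalizer (P : Set Γ) := fun t ht => by
      refine CfsgLib.Fusion.mem_normalizer_of_forall fun x hx => ⟨hHnorm.conj_mem x hx.1 t, ?_⟩
      show (t * x * t⁻¹) • l = l
      rw [mul_smul, mul_smul, inv_smul_eq_iff.2 (hfix t ht).symm, show x • l = l from hx.2, hfix t ht]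
    have hT := T.3 (IsPGroup.to_sup_of_normal_right' T.2 hP hTP) le_sup_left
    exact hT.le (Subgroup.mem_sup_right (show g ∈ P from ⟨hg, hgl⟩))
  -- transitivity
  have htrans : ∀ l ∈ U₀, ∀ l' ∈ U₀, l ≠ 0 → l' ≠ 0 → (∀ t ∈ (T : Subgroup Γ), t • l = l) →
      (∀ t ∈ (T : Subgroup Γ), t • l' = l') →
      ∃ g ∈ H, g ∈ Subgroup.normalizer ((T : Subgroup Γ) : Set Γ) ∧ g • l = l' := by
    intro l hl l' hl' hl0 hl0' hfix hfix'
    have he : ∀ i, ∃ e : ↥(E i), ∀ g ∈ H, (∀ w ∈ mv M (E i), g • w = (e : Γ) • w) →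
        g • l - l' ∈ fx M (E i) := by
      intro i
      obtain ⟨-, n, -, ⟨F, _, _, hF, ρ, ψ, hρ, hψ, hker, hact⟩ | ⟨h2', -⟩⟩ := hblk i
      swap; · exact absurd h2' hp
      obtain ⟨a, ha⟩ := exists_map_vec (a := ψ l) (b := ψ l')
        (fun e0 => hl0 (hfull i l hl hfix ((hker l).1 e0)))
        (fun e0 => hl0' (hfull i l' hl' hfix' ((hker l').1 e0)))
      obtain ⟨e, rfl⟩ := hρ.2 a
      refine ⟨e, fun g hg hge => ?_⟩
      have h1 : (e : Γ) • l - l' ∈ fx M (E i) := (hker _).1 (by rw [map_sub, hact, ha, sub_self])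
      have h3 := add_mem (hcompψ i g hg e e.2 hge l) h1
      rwa [sub_add_sub_cancel] at h3
    choose e he using he
    obtain ⟨g, hg, hge⟩ := hglue e
    have hgl : g • l = l' := sub_eq_zero.1 (hdisj _ (sub_mem (hinv g l hl) hl')
      (mem_fx_iSup fun i => he i g hg (hge i)))
    refine ⟨g, hg, ?_, hgl⟩
    rw [← inv_inv g]
    refine inv_mem (CfsgLib.Fusion.mem_normalizer_of_forall fun t ht => ?_)
    have hcH : t⁻¹ * (g⁻¹ * t * g) ∈ H := by
      have := H.mul_mem (hHnorm.conj_mem _ (H.inv_mem hg) t⁻¹) hg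
      simpa [mul_assoc] using this
    have hcl : (t⁻¹ * (g⁻¹ * t * g)) • l = l := by
      rw [mul_smul, mul_smul, mul_smul, hgl, hfix' t ht, ← hgl, inv_smul_smul, inv_smul_eq_iff, hfix t ht]
    have := mul_mem ht (hstab l hl hl0 hfix _ hcH hcl)
    simpa [mul_assoc] using this
  -- the scalars at the first block
  obtain ⟨-, n, hn, ⟨F, _, _, hF, ρ, ψ, hρ, hψ, hker, hact⟩ | ⟨h2', -⟩⟩ := hblk i₀
  swap; · exact absurd h2' hp
  haveI : CharP F p := charP_of_card_eq_prime_pow hF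
  obtain ⟨u, huT, huE, hu1⟩ : ∃ u, u ∈ (T : Subgroup Γ) ∧ ∃ hu : u ∈ E i₀, ρ ⟨u, hu⟩ ≠ 1 := by
    let a : Matrix.SpecialLinearGroup (Fin 2) F := ⟨!![1, 1; 0, 1], by rw [Matrix.det_fin_two]; simp⟩
    have ha1 : a ≠ 1 := fun e0 => by
      have := congrFun (congrFun (congrArg Subtype.val e0) 0) 1
      simp [a] at this
    obtain ⟨u, hu⟩ := hρ.2 a
    have hup : (u : Γ) ^ p = 1 := congrArg Subtype.val (hρ.1 (by
      rw [map_pow, map_one, hu]
      exact pow_eq_one_of_fix a (a := ![1, 0]) (fun e0 => by simpa using congrFun e0 0)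
        (by ext i; fin_cases i <;> simp [a, Matrix.mulVec, dotProduct, Fin.sum_univ_two])) : u ^ p = 1)
    have hpu : IsPGroup p ↥(Subgroup.zpowers (u : Γ)) := fun ⟨x, hx⟩ => by
      obtain ⟨k, rfl⟩ := Subgroup.mem_zpowers_iff.1 hx
      exact ⟨1, Subtype.ext (show ((u : Γ) ^ k) ^ (p ^ 1) = 1 by
        rw [pow_one, ← zpow_natCast, ← zpow_mul, mul_comm, zpow_mul, zpow_natCast, hup, one_zpow])⟩
    obtain ⟨P, hP⟩ := hpu.exists_le_sylow
    obtain ⟨x, hx⟩ := MulAction.exists_smul_eq Γ T P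
    obtain ⟨h₁, hh₁, t, ht, rfl⟩ : ∃ a ∈ H, ∃ b ∈ (T : Subgroup Γ), a * b = x := by
      have h1 : x ∈ H ⊔ (T : Subgroup Γ) := hgen ▸ Subgroup.mem_top x
      rw [← SetLike.mem_coe, Subgroup.normal_mul] at h1
      exact Set.mem_mul.1 h1
    have h1 : h₁⁻¹ * (u : Γ) * h₁ ∈ (T : Subgroup Γ) := by
      have hu' := hP (Subgroup.mem_zpowers _)
      rw [← hx, Sylow.coe_subgroup_smul] at hu'
      obtain ⟨y, hy, hy'⟩ := hu'
      rw [← hy']
      simpa [mul_assoc] using mul_mem (mul_mem ht hy) (inv_mem ht)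
    have hE1 : h₁⁻¹ * (u : Γ) * h₁ ∈ E i₀ :=
      (Subgroup.mem_normalizer_iff''.1 (hEN i₀ hh₁) _).1 u.2
    refine ⟨_, h1, hE1, fun e0 => ?_⟩
    have h3 : h₁⁻¹ * (u : Γ) * h₁ = 1 :=
      congrArg Subtype.val (hρ.1 (e0.trans (map_one ρ).symm) : (⟨_, hE1⟩ : ↥(E i₀)) = 1)
    have : u = 1 := Subtype.ext (by
      calc (u : Γ) = h₁ * (h₁⁻¹ * u * h₁) * h₁⁻¹ := by group
        _ = 1 := by rw [h3]; group)
    exact ha1 (hu ▸ this ▸ map_one ρ)
  have hline : ∀ a b : M, (∀ t ∈ (T : Subgroup Γ), t • a = a) → (∀ t ∈ (T : Subgroup Γ), t • b = b) →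
      ψ a ≠ 0 → ∃ c : F, ψ b = c • ψ a := fun a b ha hb h0 =>
    exists_smul_of_fix _ hu1 h0 (by rw [← hact, ha u huT]) (by rw [← hact, hb u huT])
  let Λ : Subgroup Γ := H ⊓ Subgroup.normalizer ((T : Subgroup Γ) : Set Γ)
  have hΛfix : ∀ g ∈ Λ, ∀ l : M, (∀ t ∈ (T : Subgroup Γ), t • l = l) →
      ∀ t ∈ (T : Subgroup Γ), t • g • l = g • l := by
    intro g hg l hl t ht
    have h1 := hl _ ((Subgroup.mem_normalizer_iff''.1 hg.2 t).1 ht)
    rwa [mul_smul, mul_smul, inv_smul_eq_iff] at h1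
  by_cases hL : ∃ l₀ ∈ U₀, l₀ ≠ 0 ∧ ∀ t ∈ (T : Subgroup Γ), t • l₀ = l₀
  swap
  · refine ⟨z, 1, U₀, hcommall, hzsq, hzne, one_mem _, by simpa using (Fact.out : p.Prime).not_dvd_one,
      hzneg, hinv, fun v hv => ?_, fun l hl l' _ hl0 _ hfix _ => absurd ⟨l, hl, hl0, hfix⟩ hL⟩
    obtain ⟨c, hc, w, hw, rfl⟩ := AddSubgroup.mem_sup.1 (hsup₀ ▸ AddSubgroup.mem_top v)
    refine ⟨w, hw, fun t ht => ?_, ?_, one_smul _ _⟩
    · refine sub_eq_zero.1 (hdisj _ (sub_mem (hinv t w hw) hw) ?_)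
      have h1 : t • w - w = c - t • c := by
        have := hv t ht; rw [smul_add] at this
        rw [sub_eq_sub_iff_add_eq_add, add_comm, this]
      rw [h1]
      exact sub_mem hc (hfxinv t c hc)
    · rw [add_sub_cancel_right]; exact hc z hzH
  obtain ⟨l₀, hl₀, hl₀0, hl₀fix⟩ := hL
  have ha0 : ψ l₀ ≠ 0 := fun e0 => hl₀0 (hfull i₀ l₀ hl₀ hl₀fix ((hker _).1 e0))
  have hscal : ∀ g : ↥Λ, ∃ c : F, ψ ((g : Γ) • l₀) = c • ψ l₀ := fun g =>
    hline l₀ _ hl₀fix (hΛfix g g.2 l₀ hl₀fix) ha0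
  choose c hc using hscal
  have hlin : ∀ (g : ↥Λ) (l : M), (∀ t ∈ (T : Subgroup Γ), t • l = l) →
      ψ ((g : Γ) • l) = c g • ψ l := by
    intro g l hl
    obtain ⟨m, hm⟩ := hline l₀ l hl₀fix hl ha0
    obtain ⟨e, he, hge⟩ := hcomp g g.2.1 i₀
    have hψg : ∀ v : M, ψ ((g : Γ) • v) = (ρ ⟨e, he⟩).1.mulVec (ψ v) := fun v => by
      have h5 := (hker _).2 (hcompψ i₀ g g.2.1 e he hge v)
      rw [map_sub, sub_eq_zero, hact ⟨e, he⟩] at h5
      exact h5
    rw [hψg, hm, Matrix.mulVec_smul, ← hψg, hc, smul_comm]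
  have hcinj : ∀ x y : F, x • ψ l₀ = y • ψ l₀ → x = y := fun x y e0 => smul_left_injective F ha0 e0
  let χ : ↥Λ →* F :=
    { toFun := c
      map_one' := hcinj _ _ (by rw [← hc, one_smul, Subgroup.coe_one, one_smul])
      map_mul' := fun a b => hcinj _ _ (by
        rw [← hc, Subgroup.coe_mul, mul_smul, hlin a _ (hΛfix b b.2 l₀ hl₀fix), hc b, smul_smul]) }
  let χu := χ.toHomUnits
  obtain ⟨⟨_, g₀, rfl⟩, hg₀⟩ := IsCyclic.exists_generator (α := ↥χu.range)
  obtain ⟨a, hadef⟩ : ∃ a, a = ordProj[p] (orderOf g₀) := ⟨_, rfl⟩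
  have hcop : a.Coprime (orderOf (χu g₀)) := by
    rw [hadef]
    refine Nat.Coprime.pow_left _ ((Fact.out : p.Prime).coprime_iff_not_dvd.2 fun hd => ?_)
    have h1 := hd.trans (orderOf_dvd_natCard (χu g₀))
    rw [Nat.card_units, Nat.card_eq_fintype_card, hF] at h1
    have h0 : p ∣ p ^ n := dvd_pow_self p (by omega)
    have h4 : 1 ≤ p ^ n := Nat.one_le_pow _ _ (Fact.out : p.Prime).pos
    have := Nat.dvd_sub h0 h1
    rw [Nat.sub_sub_self h4] at this
    exact (Fact.out : p.Prime).not_dvd_one this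
  refine ⟨z, ((g₀ ^ a : ↥Λ) : Γ), U₀, hcommall, hzsq, hzne, (g₀ ^ a).2.2, ?_, hzneg, hinv,
    fun v hv => ?_, fun l hl l' hl' hl0 hl0' hfix hfix' => ?_⟩
  · rw [Subgroup.orderOf_coe, orderOf_pow, hadef, Nat.gcd_eq_right (Nat.ordProj_dvd _ _)]
    exact Nat.not_dvd_ordCompl Fact.out (orderOf_pos g₀).ne'
  · obtain ⟨d, hd, w, hw, rfl⟩ := AddSubgroup.mem_sup.1 (hsup₀ ▸ AddSubgroup.mem_top v)
    refine ⟨w, hw, fun t ht => ?_, ?_, ?_⟩
    · refine sub_eq_zero.1 (hdisj _ (sub_mem (hinv t w hw) hw) ?_)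
      have h1 : t • w - w = d - t • d := by
        have := hv t ht; rw [smul_add] at this
        rw [sub_eq_sub_iff_add_eq_add, add_comm, this]
      rw [h1]
      exact sub_mem hd (hfxinv t d hd)
    · rw [add_sub_cancel_right]; exact hd z hzH
    · rw [add_sub_cancel_right]; exact hd _ (g₀ ^ a).2.1
  · obtain ⟨g, hg, hgN, hgl⟩ := htrans l hl l' hl' hl0 hl0' hfix hfix'
    obtain ⟨m, hm⟩ := exists_pow_eq_self_of_coprime hcop
    obtain ⟨i, hi⟩ : ∃ i : ℕ, (χu g₀) ^ i = χu ⟨g, hg, hgN⟩ := by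
      have := mem_powers_iff_mem_zpowers.2 (hg₀ ⟨_, ⟨g, hg, hgN⟩, rfl⟩)
      obtain ⟨i, hi⟩ := this
      exact ⟨i, congrArg Subtype.val hi⟩
    refine ⟨m * i, ?_⟩
    let y : ↥Λ := (g₀ ^ a) ^ (m * i)
    have hy : (y : Γ) = ((g₀ ^ a : ↥Λ) : Γ) ^ (m * i) := SubgroupClass.coe_pow _ _
    have hχ : χu y = χu ⟨g, hg, hgN⟩ := by
      show χu ((g₀ ^ a) ^ (m * i)) = _
      rw [pow_mul, map_pow, map_pow, map_pow, hm, hi]
    have hcy : c y = c ⟨g, hg, hgN⟩ := congrArg Units.val hχ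
    rw [← hy, ← hgl]
    refine sub_eq_zero.1 (hfull i₀ _ (sub_mem (hinv _ l hl) (hinv _ l hl)) (fun t ht => ?_) ((hker _).1 ?_))
    · rw [smul_sub, hΛfix y y.2 l hfix t ht, hΛfix g ⟨hg, hgN⟩ l hfix t ht]
    · rw [map_sub, hlin y l hfix, hlin ⟨g, hg, hgN⟩ l hfix, hcy, sub_self]

end CfsgLib.Fusion.WeakZJ
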